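import Cfsg.Agent.Lib.Helper25.FHT.Main
import Cfsg.Agent.Lib.Helper25.CNMinSimple2
import Cfsg.Agent.S1473

/-!
# The CN-theorem for groups of odd order, assuming Sibley's coherence theorem (helper25)
-/

set_option autoImplicit false
set_option linter.unusedSectionVars false
open Cfsg

namespace Cfsg.Agent.Lib.Helper25.FHT

open Cfsg.Agent.Lib.Helper25 Cfsg.Agent.S1477 Cfsg.Agent.S1483

universe u

theorem no_minSimple_CN (hSib : Sibley.{u}) {G : Type u} [Group G] [Finite G]
    (hG : IsMinSimpleOddOrder G) (hCN : IsCNGroup G) : False := by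
  classical
  let ι : Type := {n : ℕ // ∃ H : Subgroup G, MaxNil H ∧ Nat.card H = n}
  have hfin : Finite ι := by
    let f : {H : Subgroup G // MaxNil H} → ι := fun H => ⟨Nat.card H.1, H.1, H.2, rfl⟩
    apply Finite.of_surjective f
    rintro ⟨n, H, hH, rfl⟩
    exact ⟨⟨H, hH⟩, rfl⟩
  have : Fintype ι := Fintype.ofFinite ι
  choose H hH hcard using fun i : ι => i.2
  have hzp : ∀ x : G, Group.IsNilpotent (Subgroup.zpowers x) := by
    intro x
    let _ : CommGroup (Subgroup.zpowers x) := IsCyclic.commGroup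
    exact CommGroup.isNilpotent
  have hcompl := fun i => maxNil_complement hG hCN (hH i)
  refine fht_of_sibley hSib hG.1 (ι := ι) ?_ (fun i => Subgroup.normalizer (H i : Set G)) H ?_
    (fun i => maxNil_ne_bot hG (hH i)) ?_ ?_ ?_ ?_ ?_
  · -- two classes
    obtain ⟨H₀, hH₀, -⟩ := exists_maxNil (G := G) (C := ⊥) inferInstance
    obtain ⟨E, hc, hE1, hcop, -⟩ := maxNil_complement hG hCN hH₀
    obtain ⟨⟨x, hx⟩, hx1⟩ := Subgroup.ne_bot_iff_exists_ne_one.1 hE1
    have hx1' : x ≠ 1 := fun h => hx1 (Subtype.ext h)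
    obtain ⟨K, hK, hxK⟩ := exists_maxNil (hzp x)
    rw [← Nat.succ_le_iff.symm, Fintype.one_lt_card_iff]
    refine ⟨⟨_, H₀, hH₀, rfl⟩, ⟨_, K, hK, rfl⟩, ?_⟩
    intro heq
    have heq' : Nat.card H₀ = Nat.card K := congrArg Subtype.val heq
    apply hx1'
    have o1 : orderOf x ∣ Nat.card E := Subgroup.orderOf_dvd_natCard E hx
    have o2 : orderOf x ∣ Nat.card H₀ := by
      rw [heq']
      exact Subgroup.orderOf_dvd_natCard K (hxK (Subgroup.mem_zpowers x))
    exact orderOf_eq_one_iff.1 (Nat.eq_one_of_dvd_coprimes hcop o1 o2)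
  · intro i
    obtain ⟨E, hc, hE1, -, -⟩ := hcompl i
    refine lt_of_le_of_ne hc.1 ?_
    intro heq
    apply hE1
    rw [eq_bot_iff, ← hc.2.2.1]
    exact le_inf (heq ▸ hc.2.1) le_rfl
  · intro i x hx h hh
    exact Cfsg.Agent.Lib.Helper11.conj_mem_of_mem_normalizer hx hh
  · intro i h hh hh1
    exact inf_le_right.trans (maxNil_centralizer_le hG hCN (hH i) hh hh1)
  · intro i j hij
    rcases conj_or_coprime hCN (hH i) (hH j) with ⟨g, hg⟩ | h
    · exfalso
      apply hij
      apply Subtype.ext
      rw [← hcard i, ← hcard j, hg, Subgroup.card_map_of_injective (MulAut.conj g).injective]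
    · exact h
  · intro i
    refine ⟨?_, rfl⟩
    intro g hg x hx hgx
    by_contra hx1
    exact hg (mem_normalizer_of_TI hG hCN (hH i) hx hx1 hgx)
  · intro g hg1
    obtain ⟨K, hK, hgK⟩ := exists_maxNil (hzp g)
    let i : ι := ⟨_, K, hK, rfl⟩
    have hi : Nat.card (H i) = Nat.card K := hcard i
    rcases conj_or_coprime hCN (hH i) hK with ⟨x, hx⟩ | h
    · refine ⟨i, x⁻¹, ?_⟩
      have h2 : g ∈ (H i).map (MulAut.conj x).toMonoidHom := by
        rw [← hx]
        exact hgK (Subgroup.mem_zpowers g)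
      rw [inv_inv]
      exact mem_map_conj.1 h2
    · exfalso
      rw [hi, Nat.coprime_self] at h
      exact maxNil_ne_bot hG hK (Subgroup.card_eq_one.1 h)

theorem cn_solvable_of_sibley (hSib : Sibley.{u}) : ∀ (n : ℕ) (G : Type u) [Group G] [Finite G],
    Nat.card G = n → Odd (Nat.card G) → IsCNGroup G → Group.IsSolvable G := by
  intro n
  induction n using Nat.strong_induction_on with
  | _ n ih =>
    intro G _ _ hn hodd hCN
    have hsub : ∀ M : Subgroup G, M ≠ ⊤ → Group.IsSolvable M := by
      intro M hM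
      apply ih (Nat.card M) _ M rfl (Odd.of_dvd_nat hodd (Subgroup.card_subgroup_dvd_card M))
        (Cfsg.Agent.S1474.isCNGroup_subgroup hCN M)
      rw [← hn]
      refine lt_of_le_of_ne (Subgroup.card_le_card_group M) ?_
      intro he
      exact hM (Subgroup.eq_top_of_card_eq M he)
    by_cases hsimple : ∃ N : Subgroup G, N.Normal ∧ N ≠ ⊥ ∧ N ≠ ⊤
    · obtain ⟨N, hNn, hN1, hNtop⟩ := hsimple
      have hNs := hsub N hNtop
      have hQ : Group.IsSolvable (G ⧸ N) := by
        apply ih (Nat.card (G ⧸ N)) _ (G ⧸ N) rfl _ (Cfsg.Agent.S1473.result hCN N hNs)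
        · rw [← hn, ← Subgroup.index_eq_card, ← Subgroup.index_mul_card N]
          have h1 : 1 < Nat.card N := (Subgroup.one_lt_card_iff_ne_bot _).2 hN1
          have h2 : 0 < N.index := Nat.pos_of_ne_zero Subgroup.index_ne_zero_of_finite
          nlinarith
        · rw [← Subgroup.index_eq_card]
          exact Odd.of_dvd_nat hodd (Subgroup.index_dvd_card N)
      exact Group.isSolvable_of_ker_le_range N.subtype (QuotientGroup.mk' N)
        (by rw [QuotientGroup.ker_mk', Subgroup.range_subtype])
    · by_contra hns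
      have hnt : Nontrivial G := by
        by_contra h
        rw [not_nontrivial_iff_subsingleton] at h
        exact hns inferInstance
      have hsimp : IsSimpleGroup G := by
        refine ⟨fun N hN => ?_⟩
        by_contra hcon
        simp only [not_or] at hcon
        exact hsimple ⟨N, hN, hcon.1, hcon.2⟩
      have hG : IsMinSimpleOddOrder G := by
        refine ⟨hodd, hsimp, ?_, hsub⟩
        intro hcomm
        apply hns
        let _ : CommGroup G := { (inferInstance : Group G) with mul_comm := hcomm.is_comm.comm }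
        infer_instance
      exact no_minSimple_CN hSib hG hCN

end Cfsg.Agent.Lib.Helper25.FHT
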