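import Mathlib

/-!
# The final arithmetic of the Feit–Hall–Thompson counting argument (helper25)
-/

set_option autoImplicit false

namespace Cfsg.Agent.Lib.Helper25.FHT

theorem int_ineq (γ : ℤ) (u : ℕ) (hu : 2 ≤ u) : 0 ≤ γ * (γ * u - 2) := by
  have hu' : (2 : ℤ) ≤ u := by exact_mod_cast hu
  rcases le_or_gt γ 0 with h | h
  · apply mul_nonneg_of_nonpos_of_nonpos h
    nlinarith
  · apply mul_nonneg h.le
    nlinarith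

theorem final_ineq (E U Hh : ℝ) (hE : 1 < E) (hU : 2 ≤ U) (hH : Hh = 1 + E * U)
    (h : 1 - U / Hh ≤ E / Hh + (E - 1) / (Hh + 2)) : False := by
  have hHpos : 0 < Hh := by rw [hH]; nlinarith
  have h1 : (1 - U / Hh) * (Hh * (Hh + 2)) ≤ (E / Hh + (E - 1) / (Hh + 2)) * (Hh * (Hh + 2)) :=
    mul_le_mul_of_nonneg_right h (by positivity)
  have h2 : (1 - U / Hh) * (Hh * (Hh + 2)) = (Hh - U) * (Hh + 2) := by field_simp
  have h3 : (E / Hh + (E - 1) / (Hh + 2)) * (Hh * (Hh + 2)) = E * (Hh + 2) + (E - 1) * Hh := by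
    field_simp
  rw [h2, h3] at h1
  have h4 : (E - 1) * ((U - 1) * (Hh + 2)) ≤ (E - 1) * Hh := by
    have : Hh - U - E = (E - 1) * (U - 1) := by rw [hH]; ring
    nlinarith
  have h5 : (U - 1) * (Hh + 2) ≤ Hh := le_of_mul_le_mul_left h4 (by linarith)
  nlinarith

theorem arith {ι : Type*} [Fintype ι] [DecidableEq ι] (i : ι) (e u h : ι → ℕ) (g : ℕ)
    (a b : ι → ℤ) (γ d : ℤ) (hg : 0 < g) (hh : ∀ j, h j = 1 + e j * u j) (he : ∀ j, 1 < e j)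
    (hu : ∀ j, 2 ≤ u j) (hmin : ∀ j, j ≠ i → h i + 2 ≤ h j)
    (hA : (1 : ℝ) = (g : ℝ)⁻¹ + ∑ j, ((e j : ℝ) * (h j : ℝ))⁻¹ * ((h j : ℝ) - 1))
    (hB : (1 : ℝ) = (g : ℝ)⁻¹ * ((d : ℝ) * (d : ℝ)) +
      (((e i : ℝ) * (h i : ℝ))⁻¹ * ((γ : ℝ) * (γ : ℝ) * (h i : ℝ) + ((e i : ℝ) * (h i : ℝ)) -
          ((γ : ℝ) + (e i : ℝ)) * ((γ : ℝ) + (e i : ℝ))) +
      ∑ j ∈ Finset.univ.erase i, ((e j : ℝ) * (h j : ℝ))⁻¹ *
        (((h j : ℝ) - 1) * ((a j : ℝ) * (a j : ℝ)))))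
    (hC : ∑ j ∈ Finset.univ.erase i, (b j) ^ 2 * (u j : ℤ) ≤ (e i : ℤ) - 1)
    (hP : ∀ j, j ≠ i → 1 ≤ (a j) ^ 2 + (b j) ^ 2) (hd : 1 ≤ d ^ 2) : False := by
  have hgR : (0 : ℝ) < g := by exact_mod_cast hg
  have heR : ∀ j, (1 : ℝ) < e j := fun j => by exact_mod_cast he j
  have huR : ∀ j, (2 : ℝ) ≤ u j := fun j => by exact_mod_cast hu j
  have hhR : ∀ j, (h j : ℝ) = 1 + (e j : ℝ) * (u j : ℝ) := fun j => by exact_mod_cast hh j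
  have hhpos : ∀ j, (0 : ℝ) < h j := fun j => by
    rw [hhR]; nlinarith [heR j, huR j]
  -- `F j = u j / h j`
  have hF : ∀ j, ((e j : ℝ) * (h j : ℝ))⁻¹ * ((h j : ℝ) - 1) = (u j : ℝ) / (h j : ℝ) := by
    intro j
    have h1 : (e j : ℝ) ≠ 0 := by linarith [heR j]
    have h2 := (hhpos j).ne'
    have h3 : (h j : ℝ) - 1 = (e j : ℝ) * (u j : ℝ) := by rw [hhR]; ring
    rw [h3]
    field_simp
  have hF' : ∀ j (c : ℝ), ((e j : ℝ) * (h j : ℝ))⁻¹ * (((h j : ℝ) - 1) * c)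
      = c * ((u j : ℝ) / (h j : ℝ)) := by
    intro j c
    rw [← mul_assoc, hF]
    ring
  simp_rw [hF] at hA
  simp_rw [hF'] at hB
  rw [← Finset.add_sum_erase _ _ (Finset.mem_univ i)] at hA
  -- termwise comparison
  have hS : ∑ j ∈ Finset.univ.erase i, (u j : ℝ) / (h j : ℝ) ≤
      ∑ j ∈ Finset.univ.erase i, (a j : ℝ) * (a j : ℝ) * ((u j : ℝ) / (h j : ℝ)) +
      ∑ j ∈ Finset.univ.erase i, ((b j : ℝ) ^ 2 * (u j : ℝ)) / ((h i : ℝ) + 2) := by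
    rw [← Finset.sum_add_distrib]
    apply Finset.sum_le_sum
    intro j hj
    have hji : j ≠ i := Finset.ne_of_mem_erase hj
    have h1 : (1 : ℝ) ≤ (a j : ℝ) ^ 2 + (b j : ℝ) ^ 2 := by exact_mod_cast hP j hji
    have h2 : (h i : ℝ) + 2 ≤ h j := by exact_mod_cast hmin j hji
    have h3 : (0 : ℝ) ≤ (u j : ℝ) / (h j : ℝ) := div_nonneg (by linarith [huR j]) (hhpos j).le
    have h4 : ((b j : ℝ) ^ 2 * (u j : ℝ)) / (h j : ℝ) ≤ ((b j : ℝ) ^ 2 * (u j : ℝ)) / ((h i : ℝ) + 2) := by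
      apply div_le_div_of_nonneg_left _ _ h2
      · have := huR j
        positivity
      · linarith [hhpos i]
    have h5 : ((b j : ℝ) ^ 2 * (u j : ℝ)) / (h j : ℝ) = (b j : ℝ) ^ 2 * ((u j : ℝ) / (h j : ℝ)) := by
      ring
    nlinarith
  have hC' : ∑ j ∈ Finset.univ.erase i, ((b j : ℝ) ^ 2 * (u j : ℝ)) / ((h i : ℝ) + 2) ≤
      ((e i : ℝ) - 1) / ((h i : ℝ) + 2) := by
    rw [← Finset.sum_div]
    apply div_le_div_of_nonneg_right _ (by linarith [hhpos i])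
    exact_mod_cast hC
  -- the `Q` term
  have hQ : 1 - (e i : ℝ) / (h i : ℝ) ≤ ((e i : ℝ) * (h i : ℝ))⁻¹ *
      ((γ : ℝ) * (γ : ℝ) * (h i : ℝ) + ((e i : ℝ) * (h i : ℝ)) -
          ((γ : ℝ) + (e i : ℝ)) * ((γ : ℝ) + (e i : ℝ))) := by
    have h1 : (e i : ℝ) ≠ 0 := by linarith [heR i]
    have h2 := (hhpos i).ne'
    have h3 : (0 : ℝ) ≤ (γ : ℝ) * ((γ : ℝ) * (u i : ℝ) - 2) := by
      exact_mod_cast int_ineq γ (u i) (hu i)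
    have h4 : ((e i : ℝ) * (h i : ℝ))⁻¹ *
      ((γ : ℝ) * (γ : ℝ) * (h i : ℝ) + ((e i : ℝ) * (h i : ℝ)) -
          ((γ : ℝ) + (e i : ℝ)) * ((γ : ℝ) + (e i : ℝ))) - (1 - (e i : ℝ) / (h i : ℝ))
        = ((γ : ℝ) * ((γ : ℝ) * (u i : ℝ) - 2)) / (h i : ℝ) := by
      have h5 : (γ : ℝ) * (γ : ℝ) * (h i : ℝ) = (γ : ℝ) * (γ : ℝ) * (1 + (e i : ℝ) * (u i : ℝ)) := by
        rw [hhR]
      rw [h5]
      field_simp
      ring
    have h6 : 0 ≤ ((γ : ℝ) * ((γ : ℝ) * (u i : ℝ) - 2)) / (h i : ℝ) := div_nonneg h3 (hhpos i).le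
    linarith
  have hd' : (g : ℝ)⁻¹ ≤ (g : ℝ)⁻¹ * ((d : ℝ) * (d : ℝ)) := by
    have h1 : (1 : ℝ) ≤ (d : ℝ) * (d : ℝ) := by
      have : (1 : ℝ) ≤ (d : ℝ) ^ 2 := by exact_mod_cast hd
      nlinarith
    have h2 : (0 : ℝ) < (g : ℝ)⁻¹ := inv_pos.2 hgR
    nlinarith
  apply final_ineq (e i) (u i) (h i) (heR i) (huR i) (hhR i)
  linarith

end Cfsg.Agent.Lib.Helper25.FHT
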