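import Cfsg.Agent.Lib.Helper66.FrobBasic
import Cfsg.Agent.S0034

/-!
# Frobenius groups given by the centralizer condition on the kernel (helper25)
-/

set_option autoImplicit false
open Cfsg

namespace Cfsg.Agent.Lib.Helper25.FHT

variable {X : Type*} [Group X] [Finite X]

/-- a prime dividing the index of `K` divides `|K| - 1`. -/
theorem card_modEq_one_of_prime_dvd_index (K : Subgroup X) [hK : K.Normal]
    (hC : ∀ k ∈ K, k ≠ 1 → Subgroup.centralizer ({k} : Set X) ≤ K) (p : ℕ) [hp : Fact p.Prime]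
    (hpi : p ∣ K.index) : Nat.card K ≡ 1 [MOD p] := by
  classical
  -- a `p`-element outside `K`
  obtain ⟨P⟩ : Nonempty (Sylow p X) := inferInstance
  have hPK : ¬ (P : Subgroup X) ≤ K := by
    intro hle
    have h1 : K.index ∣ (P : Subgroup X).index := Subgroup.index_dvd_of_le hle
    exact P.not_dvd_index (hpi.trans h1)
  obtain ⟨x, hxP, hxK⟩ := SetLike.not_le_iff_exists.1 hPK
  have hQ : IsPGroup p (Subgroup.zpowers x) :=
    P.isPGroup'.to_le (Subgroup.zpowers_le.2 hxP)
  have hdisj : ∀ y ∈ Subgroup.zpowers x, y ∈ K → y = 1 := by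
    intro y hy hyK
    by_contra hy1
    apply hxK
    apply hC y hyK hy1
    rw [Subgroup.mem_centralizer_singleton_iff]
    obtain ⟨n, rfl⟩ := Subgroup.mem_zpowers_iff.1 hy
    exact ((Commute.refl x).zpow_right n).eq
  let _ : MulAction (Subgroup.zpowers x) K :=
    MulAction.compHom K ((MulAut.conjNormal (H := K)).comp (Subgroup.zpowers x).subtype)
  have hsmul : ∀ (y : Subgroup.zpowers x) (k : K), ((y • k : K) : X) = y * k * (y : X)⁻¹ := by
    intro y k
    rfl
  have h1 := hQ.card_modEq_card_fixedPoints K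
  have h2 : Nat.card (MulAction.fixedPoints (Subgroup.zpowers x) K) = 1 := by
    rw [Nat.card_eq_one_iff_unique]
    refine ⟨⟨?_⟩, ⟨⟨1, ?_⟩⟩⟩
    · rintro ⟨a, ha⟩ ⟨b, hb⟩
      have key : ∀ c : K, c ∈ MulAction.fixedPoints (Subgroup.zpowers x) K → c = 1 := by
        intro c hc
        by_contra hc1
        have h3 := hc ⟨x, Subgroup.mem_zpowers x⟩
        have h4 : x * c * x⁻¹ = c := by
          have := congrArg Subtype.val h3
          rwa [hsmul] at this
        apply hxK
        apply hC c c.2 (fun h => hc1 (Subtype.ext h))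
        rw [Subgroup.mem_centralizer_singleton_iff]
        calc x * c = x * c * x⁻¹ * x := by group
          _ = c * x := by rw [h4]
      apply Subtype.ext
      exact (key a ha).trans (key b hb).symm
    · intro y
      apply Subtype.ext
      rw [hsmul]
      simp
  rw [h2] at h1
  exact h1

theorem coprime_card_index_of_centralizer (K : Subgroup X) [hK : K.Normal]
    (hC : ∀ k ∈ K, k ≠ 1 → Subgroup.centralizer ({k} : Set X) ≤ K) :
    (Nat.card K).Coprime K.index := by
  apply Nat.Coprime.symm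
  apply Nat.coprime_of_dvd
  intro p hp hpi hpK
  have : Fact p.Prime := ⟨hp⟩
  have h1 := card_modEq_one_of_prime_dvd_index K hC p hpi
  have h2 : Nat.card K ≡ 0 [MOD p] := (Nat.modEq_zero_iff_dvd).2 hpK
  have h3 : 1 ≡ 0 [MOD p] := h1.symm.trans h2
  have h4 := (Nat.modEq_zero_iff_dvd).1 h3
  exact hp.one_lt.ne' (Nat.dvd_one.1 h4)

/-- structure of a Frobenius group given by the centralizer condition -/
theorem frobenius_structure (K : Subgroup X) [hK : K.Normal] (hK1 : K ≠ ⊥) (hKtop : K ≠ ⊤)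
    (hC : ∀ k ∈ K, k ≠ 1 → Subgroup.centralizer ({k} : Set X) ≤ K) :
    (Nat.card K).Coprime K.index ∧ Group.IsNilpotent K ∧ K.index ∣ Nat.card K - 1 ∧
      ∃ W : Subgroup X, Subgroup.IsComplement' K W ∧ W ≠ ⊥ ∧
        ∀ w ∈ W, w ≠ 1 → ∀ k ∈ K, w * k = k * w → k = 1 := by
  have hcop := coprime_card_index_of_centralizer K hC
  obtain ⟨W, hW⟩ := Subgroup.exists_right_complement'_of_coprime hcop
  have hW1 : W ≠ ⊥ := by
    rintro rfl
    exact hKtop (Subgroup.isComplement'_bot_right.1 hW)
  have hfpf : ∀ w ∈ W, w ≠ 1 → ∀ k ∈ K, w * k = k * w → k = 1 := by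
    intro w hw hw1 k hk hwk
    by_contra hk1
    apply hw1
    have h1 : w ∈ K := hC k hk hk1 (Subgroup.mem_centralizer_singleton_iff.2 hwk)
    have h2 : w ∈ K ⊓ W := Subgroup.mem_inf.2 ⟨h1, hw⟩
    rw [hW.disjoint.eq_bot] at h2
    exact Subgroup.mem_bot.1 h2
  have hfrob : IsFrobeniusComplement W := by
    rw [Cfsg.Agent.S0039.result K W hW hK1 hW1]
    intro w hw hw1
    rw [eq_bot_iff]
    rintro k ⟨hk, hkw⟩
    exact Subgroup.mem_bot.2 (hfpf w hw hw1 k hk (Subgroup.mem_centralizer_singleton_iff.1 hkw).symm)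
  obtain ⟨N, hN⟩ := Cfsg.Agent.Lib.Helper66.exists_frobData W hfrob
  have hKN : K = N := by
    apply Subgroup.eq_of_le_of_card_ge
    · intro k hk
      have : k ∈ (N : Set X) := by
        rw [hN.set_eq]
        by_cases hk1 : k = 1
        · exact Or.inl hk1
        · right
          intro g hg
          obtain ⟨c, hc, hcx⟩ := (Subgroup.mem_smul_pointwise_iff_exists _ _ _).mp hg
          apply hk1
          have h1 : c ∈ K := by
            have h2 : c = g⁻¹ * k * g⁻¹⁻¹ := by
              rw [← hcx]; simp [MulAut.smul_def]; group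
            rw [h2]
            exact hK.conj_mem k hk g⁻¹
          have h3 : c ∈ K ⊓ W := Subgroup.mem_inf.2 ⟨h1, hc⟩
          rw [hW.disjoint.eq_bot, Subgroup.mem_bot] at h3
          rw [← hcx, h3]
          simp
      exact this
    · have h1 := hN.isCompl.card_mul_card
      have h2 := hW.card_mul_card
      have h3 : Nat.card N * Nat.card W = Nat.card K * Nat.card W := by rw [h1, h2]
      exact (Nat.eq_of_mul_eq_mul_right Nat.card_pos h3).le
  refine ⟨hcop, hKN ▸ hN.nilp, ?_, W, hW, hW1, hfpf⟩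
  have h1 := (Cfsg.Agent.S0034.result W hfrob).2
  rw [hW.index_eq_card] at h1
  rw [hW.symm.index_eq_card]
  exact (Nat.modEq_iff_dvd' Nat.card_pos).1 (Nat.ModEq.symm h1)

end Cfsg.Agent.Lib.Helper25.FHT
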