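import Mathlib
import Cfsg.Prelude.Def_OddOrderLocal
import Cfsg.Prelude.Def_Characters

/-!
# Partition of a group by conjugates of TI-subgroups: the weighted sum formula (helper25)
-/

set_option autoImplicit false
open Cfsg

namespace Cfsg.Agent.Lib.Helper25.FHT

variable {G : Type*} [Group G] {ι : Type*}

/-- the parametrisation of `G \ {1}` by (index, coset of the normalizer, nonidentity element). -/
noncomputable def partMap (H : ι → Subgroup G) :
    (Σ i, (G ⧸ Subgroup.normalizer (H i : Set G)) × {h : H i // h ≠ 1}) → {g : G // g ≠ 1} :=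
  fun s => ⟨s.2.1.out * (s.2.2.1 : G) * (s.2.1.out)⁻¹, by
      intro h
      apply s.2.2.2
      have : ((s.2.2.1 : H s.1) : G) = 1 := by
        have h2 := congrArg (fun t => (s.2.1.out)⁻¹ * t * s.2.1.out) h
        simpa [mul_assoc] using h2
      exact Subtype.ext this⟩

theorem partMap_bijective (H : ι → Subgroup G)
    (hcop : ∀ i j, i ≠ j → Nat.Coprime (Nat.card (H i)) (Nat.card (H j)))
    (hTI : ∀ i, Cfsg.IsTISubset (H i : Set G))
    (hcover : ∀ g : G, g ≠ 1 → ∃ i, ∃ x : G, x * g * x⁻¹ ∈ H i) :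
    Function.Bijective (partMap H) := by
  classical
  let N : ι → Subgroup G := fun i => Subgroup.normalizer (H i : Set G)
  constructor
  · rintro ⟨i, a, h, hh⟩ ⟨j, b, k, hk⟩ hEq
    have hEq' : a.out * (h : G) * (a.out)⁻¹ = b.out * (k : G) * (b.out)⁻¹ := congrArg Subtype.val hEq
    have hij : i = j := by
      by_contra hne
      have hc := hcop i j hne
      have ho1 : orderOf (h : G) ∣ Nat.card (H i) := by
        rw [Subgroup.orderOf_coe]; exact orderOf_dvd_natCard h
      have ho2 : orderOf (k : G) ∣ Nat.card (H j) := by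
        rw [Subgroup.orderOf_coe]; exact orderOf_dvd_natCard k
      have ho3 : orderOf (h : G) = orderOf (k : G) := by
        have e1 : orderOf (a.out * (h : G) * (a.out)⁻¹) = orderOf (h : G) := by
          have := MulEquiv.orderOf_eq (MulAut.conj a.out) (h : G)
          simpa using this
        have e2 : orderOf (b.out * (k : G) * (b.out)⁻¹) = orderOf (k : G) := by
          have := MulEquiv.orderOf_eq (MulAut.conj b.out) (k : G)
          simpa using this
        rw [← e1, ← e2, hEq']
      have : orderOf (h : G) ∣ 1 := by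
        have := Nat.dvd_gcd ho1 (ho3 ▸ ho2)
        rwa [hc] at this
      have h1 : (h : G) = 1 := orderOf_eq_one_iff.1 (Nat.dvd_one.1 this)
      exact hh (Subtype.ext h1)
    subst hij
    have hconj : ((b.out)⁻¹ * a.out) * (h : G) * ((b.out)⁻¹ * a.out)⁻¹ = (k : G) := by
      have h2 := congrArg (fun t => (b.out)⁻¹ * t * b.out) hEq'
      simp only [mul_assoc, inv_mul_cancel_left, inv_mul_cancel, mul_one] at h2
      simp only [mul_inv_rev, inv_inv, mul_assoc]
      exact h2
    have hmem : (b.out)⁻¹ * a.out ∈ N i := by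
      by_contra hn
      have := hTI i _ hn (h : G) h.2 (by rw [hconj]; exact k.2)
      exact hh (Subtype.ext this)
    have hab : a = b := by
      have : (QuotientGroup.mk b.out : G ⧸ N i) = QuotientGroup.mk a.out := QuotientGroup.eq.2 hmem
      simpa using this.symm
    subst hab
    have hhk : (h : G) = k := by
      have h2 := congrArg (fun t => (a.out)⁻¹ * t * a.out) hEq'
      simpa [mul_assoc] using h2
    have : h = k := Subtype.ext hhk
    subst this
    rfl
  · rintro ⟨g, hg⟩
    obtain ⟨i, x, hx⟩ := hcover g hg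
    let a : G ⧸ N i := QuotientGroup.mk x⁻¹
    have ha : (x⁻¹)⁻¹ * a.out ∈ N i := QuotientGroup.eq.1 (by simp [a])
    set n := (x⁻¹)⁻¹ * a.out with hn
    have hmem : n⁻¹ * (x * g * x⁻¹) * n ∈ H i := by
      have := (Subgroup.mem_normalizer_iff.1 (inv_mem ha) (x * g * x⁻¹)).1 hx
      simpa using this
    have hne : (⟨n⁻¹ * (x * g * x⁻¹) * n, hmem⟩ : H i) ≠ 1 := by
      intro h1
      have h2 : n⁻¹ * (x * g * x⁻¹) * n = 1 := congrArg Subtype.val h1
      apply hg
      have h3 : x * g * x⁻¹ = 1 := by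
        have := congrArg (fun t => n * t * n⁻¹) h2
        simpa [mul_assoc] using this
      have := congrArg (fun t => x⁻¹ * t * x) h3
      simpa [mul_assoc] using this
    refine ⟨⟨i, a, ⟨⟨_, hmem⟩, hne⟩⟩, ?_⟩
    apply Subtype.ext
    show a.out * (n⁻¹ * (x * g * x⁻¹) * n) * (a.out)⁻¹ = g
    have : a.out = x⁻¹ * n := by simp [hn]
    rw [this]
    group

/-- the punctured sum of a function over a finite group -/
noncomputable def psum {K : Type*} [Group K] [Fintype K] (F : K → ℂ) : ℂ := ∑ k : K, F k - F 1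

theorem psum_eq_sum_ne {K : Type*} [Group K] [Fintype K] [DecidableEq K] (F : K → ℂ) :
    psum F = ∑ k : {k : K // k ≠ 1}, F k := by
  unfold psum
  rw [Fintype.sum_eq_add_sum_subtype_ne F 1]
  ring

theorem psum_congr {K : Type*} [Group K] [Fintype K] {F F' : K → ℂ}
    (h : ∀ k, k ≠ 1 → F k = F' k) : psum F = psum F' := by
  classical
  rw [psum_eq_sum_ne, psum_eq_sum_ne]
  exact Finset.sum_congr rfl (fun k _ => h k k.2)

theorem psum_const {K : Type*} [Group K] [Fintype K] (c : ℂ) :
    psum (fun _ : K => c) = ((Nat.card K : ℂ) - 1) * c := by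
  unfold psum
  simp [Nat.card_eq_fintype_card]
  ring

theorem partition_sum [Fintype G] [Fintype ι] (H : ι → Subgroup G) [∀ i, Fintype (H i)]
    (hcop : ∀ i j, i ≠ j → Nat.Coprime (Nat.card (H i)) (Nat.card (H j)))
    (hTI : ∀ i, Cfsg.IsTISubset (H i : Set G))
    (hcover : ∀ g : G, g ≠ 1 → ∃ i, ∃ x : G, x * g * x⁻¹ ∈ H i)
    (F : G → ℂ) (hF : IsClassFunction G F) :
    ∑ x : G, F x = F 1 + ∑ i, ((Subgroup.normalizer (H i : Set G)).index : ℂ) *
      psum (fun k : H i => F k) := by
  classical
  rw [Fintype.sum_eq_add_sum_subtype_ne F 1]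
  congr 1
  have inst : ∀ i, Fintype (G ⧸ Subgroup.normalizer (H i : Set G)) := fun i => Fintype.ofFinite _
  rw [← (Equiv.ofBijective _ (partMap_bijective H hcop hTI hcover)).sum_comp]
  rw [Fintype.sum_sigma]
  apply Finset.sum_congr rfl
  intro i _
  rw [Fintype.sum_prod_type, psum_eq_sum_ne]
  have h1 : ∀ (a : G ⧸ Subgroup.normalizer (H i : Set G)) (h : {h : H i // h ≠ 1}),
      F ((Equiv.ofBijective _ (partMap_bijective H hcop hTI hcover)) ⟨i, (a, h)⟩ : {g : G // g ≠ 1})
        = F (h : H i) := by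
    intro a h
    exact hF _ _
  simp only [h1]
  rw [Finset.sum_const, Finset.card_univ, Subgroup.index, Nat.card_eq_fintype_card, nsmul_eq_mul]

end Cfsg.Agent.Lib.Helper25.FHT
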