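import Cfsg.Agent.Lib.Helper25.FHT.LocalData
import Cfsg.Agent.Lib.Helper25.FHT.Partition
import Cfsg.Agent.Lib.Helper25.FHT.Arith
import Cfsg.Agent.S1509

/-!
# The global counting argument of Feit–Hall–Thompson (helper25)
-/

set_option autoImplicit false
set_option linter.unusedSectionVars false
open Cfsg

namespace Cfsg.Agent.Lib.Helper25.FHT

open Cfsg.Agent.Lib.Helper15 Cfsg.Agent.Lib.Helper26
open scoped ComplexConjugate

variable {G : Type*} [Group G] [Fintype G] {ι : Type*} [Fintype ι] (H : ι → Subgroup G)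
  [∀ i, Fintype (H i)] (e : ι → ℕ)

/-- the partition hypotheses -/
structure Setup : Prop where
  cop : ∀ i j, i ≠ j → Nat.Coprime (Nat.card (H i)) (Nat.card (H j))
  ti : ∀ i, Cfsg.IsTISubset (H i : Set G)
  cover : ∀ g : G, g ≠ 1 → ∃ i, ∃ x : G, x * g * x⁻¹ ∈ H i
  idx : ∀ i, (Subgroup.normalizer (H i : Set G)).index * (e i * Nat.card (H i)) = Nat.card G

variable {H e}

theorem inner_formula (hS : Setup H e) {φ ψ : G → ℂ} (hφ : IsClassFunction G φ)
    (hψ : IsClassFunction G ψ) :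
    classInner φ ψ = (Nat.card G : ℂ)⁻¹ * (φ 1 * conj (ψ 1)) +
      ∑ i, ((e i : ℂ) * (Nat.card (H i) : ℂ))⁻¹ * psum (fun k : H i => φ k * conj (ψ k)) := by
  unfold classInner
  rw [partition_sum H hS.cop hS.ti hS.cover (fun x => φ x * conj (ψ x))
    (fun g h => by simp only [hφ g h, hψ g h]), mul_add, Finset.mul_sum]
  congr 1
  apply Finset.sum_congr rfl
  intro i _
  rw [← mul_assoc]
  congr 1
  have h1 := hS.idx i
  have h2 : ((Subgroup.normalizer (H i : Set G)).index : ℂ) * ((e i : ℂ) * (Nat.card (H i) : ℂ))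
      = (Nat.card G : ℂ) := by exact_mod_cast h1
  have hg : (Nat.card G : ℂ) ≠ 0 := card_ne_zero G
  have h3 : ((e i : ℂ) * (Nat.card (H i) : ℂ)) ≠ 0 := by
    intro h
    rw [h, mul_zero] at h2
    exact hg h2.symm
  have h4 : ((Subgroup.normalizer (H i : Set G)).index : ℂ) ≠ 0 := by
    intro h
    rw [h, zero_mul] at h2
    exact hg h2.symm
  rw [← h2, mul_inv, mul_comm _ ((e i : ℂ) * (Nat.card (H i) : ℂ))⁻¹, mul_assoc,
    inv_mul_cancel₀ h4, mul_one]

/-- inner product with a function supported on the conjugates of `H i` -/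
theorem inner_formula_supp [DecidableEq ι] (hS : Setup H e) {φ ψ : G → ℂ}
    (hφ : IsClassFunction G φ) (hψ : IsClassFunction G ψ) (i : ι) (hs : SuppOn (H i) φ) :
    classInner φ ψ =
      ((e i : ℂ) * (Nat.card (H i) : ℂ))⁻¹ * psum (fun k : H i => φ k * conj (ψ k)) := by
  rw [inner_formula hS hφ hψ, hs.apply_one, zero_mul, mul_zero, zero_add,
    ← Finset.add_sum_erase _ _ (Finset.mem_univ i)]
  rw [Finset.sum_eq_zero, add_zero]
  intro j hj
  have hji : j ≠ i := Finset.ne_of_mem_erase hj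
  have : psum (fun k : H j => φ k * conj (ψ k)) = psum (fun _ : H j => (0 : ℂ)) := by
    apply psum_congr
    intro k _
    rw [hs.apply_eq_zero (hS.cop i j hji.symm) k.2, zero_mul]
  rw [this, psum_const, mul_zero, mul_zero]

section signed

theorem gen_of_signed {χ : G → ℂ} (h : IsIrrCharacter G χ ∨ IsIrrCharacter G (-χ)) :
    IsGeneralizedCharacter G χ := by
  rcases h with h | h
  · exact gen_of_irr h
  · have := gen_neg (gen_of_irr h)
    rwa [neg_neg] at this

theorem norm_of_signed {χ : G → ℂ} (h : IsIrrCharacter G χ ∨ IsIrrCharacter G (-χ)) :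
    classInner χ χ = 1 := by
  rcases h with h | h
  · exact irr_inner_self h
  · have := irr_inner_self h
    rwa [Cfsg.Agent.Lib.Helper15.classInner_neg_left, Cfsg.Agent.Lib.Helper15.classInner_neg_right,
      neg_neg] at this

theorem odd_degree_of_irr (hodd : Odd (Nat.card G)) {χ : G → ℂ} (h : IsIrrCharacter G χ) :
    ∃ d : ℤ, χ 1 = d ∧ Odd d := by
  have h1 := Cfsg.Agent.Lib.Helper80.charDegree_dvd_card (⟨χ, h⟩ : IrrCharacter G)
  have h2 := Cfsg.Agent.Lib.Helper80.char_one_eq_charDegree (irr_char h)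
  refine ⟨(charDegree χ : ℤ), by rw [h2]; simp, ?_⟩
  have : Odd (charDegree χ) := Odd.of_dvd_nat hodd h1
  exact_mod_cast this

theorem odd_degree_of_signed (hodd : Odd (Nat.card G)) {χ : G → ℂ}
    (h : IsIrrCharacter G χ ∨ IsIrrCharacter G (-χ)) : ∃ d : ℤ, χ 1 = d ∧ Odd d := by
  rcases h with h | h
  · exact odd_degree_of_irr hodd h
  · obtain ⟨d, hd, hd'⟩ := odd_degree_of_irr hodd h
    refine ⟨-d, ?_, hd'.neg⟩
    have : χ 1 = - ((-χ) 1) := by simp
    rw [this, hd]
    simp

end signed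

variable {X B T z : ι → G → ℂ} {XX : ι → Set (G → ℂ)}

theorem cross_orth (hS : Setup H e)
    (hD : ∀ i, LocalData (H i) (e i) (X i) (B i) (T i) (z i) (XX i)) {i j : ι} (hij : i ≠ j)
    {χ η : G → ℂ} (hχ : χ ∈ XX i) (hη : η ∈ XX j) : classInner χ η = 0 := by
  obtain ⟨χ', hχ', h1, h2, h3⟩ := (hD i).partner χ hχ
  obtain ⟨η', hη', k1, k2, k3⟩ := (hD j).partner η hη
  have := Cfsg.Agent.S1509.result χ χ' η η' ((hD i).irr χ hχ) ((hD i).irr χ' hχ')
    ((hD j).irr η hη) ((hD j).irr η' hη') 1 1 one_ne_zero one_ne_zero h1 k1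
    (by
      simp only [Complex.ofReal_one, one_smul]
      exact classInner_eq_zero_of_suppOn (hS.cop i j hij) h3 k3) h2
    (by simp only [Complex.ofReal_one, one_mul]; exact k2)
  exact this.1

theorem X_val_cross (hS : Setup H e)
    (hD : ∀ i, LocalData (H i) (e i) (X i) (B i) (T i) (z i) (XX i)) {i j : ι} (hij : i ≠ j)
    {x : G} (hx : x ∈ H j) (hx1 : x ≠ 1) : X i x = classInner (X i) (B j) :=
  (hD j).const (X i) (gen_classFunction (gen_of_signed ((hD i).irr _ (hD i).X_mem)))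
    (fun _ hη => cross_orth hS hD hij (hD i).X_mem hη) x hx hx1

theorem sum_f (hS : Setup H e) :
    (1 : ℂ) = (Nat.card G : ℂ)⁻¹ +
      ∑ i, ((e i : ℂ) * (Nat.card (H i) : ℂ))⁻¹ * ((Nat.card (H i) : ℂ) - 1) := by
  have h := inner_formula hS (one_isClassFunction (K := G)) (one_isClassFunction (K := G))
  rw [classInner_one_one] at h
  refine h.trans ?_
  simp only [map_one, mul_one]
  congr 1
  apply Finset.sum_congr rfl
  intro i _
  rw [psum_const, mul_one]

theorem sum_affine {i : ι} (hD : LocalData (H i) (e i) (X i) (B i) (T i) (z i) (XX i))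
    (c s : ℂ) (hc : conj c = c) (hs : conj s = s) :
    ∑ k : H i, (c + s * z i k) * conj (c + s * z i k) =
      c * c * (Nat.card (H i) : ℂ) + s * s * ((e i : ℂ) * (Nat.card (H i) : ℂ)) := by
  have h1 : ∀ k : H i, (c + s * z i k) * conj (c + s * z i k) =
      c * c + c * s * conj (z i k) + c * s * z i k + s * s * (z i k * conj (z i k)) := by
    intro k
    simp only [map_add, map_mul, hc, hs]
    ring
  simp_rw [h1]
  have hA : ∑ _k : H i, c * c = c * c * (Nat.card (H i) : ℂ) := by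
    rw [Finset.sum_const, Finset.card_univ, ← Nat.card_eq_fintype_card, nsmul_eq_mul, mul_comm]
  have hB : ∑ k : H i, c * s * conj (z i k) = 0 := by
    rw [← Finset.mul_sum, ← map_sum, hD.z_sum, map_zero, mul_zero]
  have hC : ∑ k : H i, c * s * z i k = 0 := by
    rw [← Finset.mul_sum, hD.z_sum, mul_zero]
  have hE : ∑ k : H i, s * s * (z i k * conj (z i k)) =
      s * s * ((e i : ℂ) * (Nat.card (H i) : ℂ)) := by
    rw [← Finset.mul_sum, hD.z_sq]
  rw [Finset.sum_add_distrib, Finset.sum_add_distrib, Finset.sum_add_distrib, hA, hB, hC, hE,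
    add_zero, add_zero]

theorem B_cf (hD : ∀ i, LocalData (H i) (e i) (X i) (B i) (T i) (z i) (XX i)) (i : ι) :
    IsClassFunction G (B i) := gen_classFunction (hD i).B_gen

theorem X_cf (hD : ∀ i, LocalData (H i) (e i) (X i) (B i) (T i) (z i) (XX i)) (i : ι) :
    IsClassFunction G (X i) := gen_classFunction (gen_of_signed ((hD i).irr _ (hD i).X_mem))

theorem eh_ne_zero (hS : Setup H e) (i : ι) : ((e i : ℂ) * (Nat.card (H i) : ℂ)) ≠ 0 := by
  have h1 := hS.idx i
  intro h
  have h2 : e i * Nat.card (H i) = 0 := by exact_mod_cast h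
  rw [h2, mul_zero] at h1
  exact Nat.card_pos.ne h1

theorem norm_B [DecidableEq ι] (hS : Setup H e)
    (hD : ∀ i, LocalData (H i) (e i) (X i) (B i) (T i) (z i) (XX i)) (i : ι) :
    classInner (B i) (B i) = (e i : ℂ) + 1 := by
  rw [inner_formula_supp hS (B_cf hD i) (B_cf hD i) i (hD i).B_supp]
  have h1 : psum (fun k : H i => B i k * conj (B i k)) =
      psum (fun k : H i => ((e i : ℂ) + (-1) * z i k) * conj ((e i : ℂ) + (-1) * z i k)) := by
    apply psum_congr
    intro k hk
    rw [(hD i).B_val k k.2 (fun h => hk (Subtype.ext h))]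
    ring_nf
  rw [h1]
  simp only [psum]
  rw [sum_affine (hD i) _ _ (by simp) (by simp)]
  have h2 : z i ((1 : H i) : G) = (e i : ℂ) := (hD i).z_one
  rw [h2]
  have h3 := eh_ne_zero hS i
  have : (e i : ℂ) * (e i : ℂ) * (Nat.card (H i) : ℂ) + -1 * -1 * ((e i : ℂ) * (Nat.card (H i) : ℂ))
      - ((e i : ℂ) + -1 * (e i : ℂ)) * conj ((e i : ℂ) + -1 * (e i : ℂ))
      = ((e i : ℂ) * (Nat.card (H i) : ℂ)) * ((e i : ℂ) + 1) := by
    simp
    ring
  rw [this, inv_mul_cancel_left₀ h3]

theorem inner_B_one [DecidableEq ι] (hS : Setup H e)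
    (hD : ∀ i, LocalData (H i) (e i) (X i) (B i) (T i) (z i) (XX i)) (i : ι) :
    classInner (B i) (fun _ => 1) = 1 := by
  rw [inner_formula_supp hS (B_cf hD i) one_isClassFunction i (hD i).B_supp]
  have h1 : psum (fun k : H i => B i k * conj (1 : ℂ)) =
      psum (fun k : H i => (e i : ℂ) - z i k) := by
    apply psum_congr
    intro k hk
    rw [(hD i).B_val k k.2 (fun h => hk (Subtype.ext h))]
    simp
  rw [h1]
  simp only [psum]
  have h2 : z i ((1 : H i) : G) = (e i : ℂ) := (hD i).z_one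
  rw [h2, Finset.sum_sub_distrib, (hD i).z_sum, Finset.sum_const, Finset.card_univ,
    ← Nat.card_eq_fintype_card]
  have h3 := eh_ne_zero hS i
  have : Nat.card (H i) • (e i : ℂ) - 0 - ((e i : ℂ) - (e i : ℂ))
      = ((e i : ℂ) * (Nat.card (H i) : ℂ)) := by
    simp
    ring
  rw [this, inv_mul_cancel₀ h3]

theorem norm_X [DecidableEq ι] (hS : Setup H e)
    (hD : ∀ i, LocalData (H i) (e i) (X i) (B i) (T i) (z i) (XX i)) (i : ι) (a : ι → ℤ)
    (ha : ∀ j, classInner (X i) (B j) = a j) (d : ℤ) (hd : X i 1 = d) :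
    (1 : ℂ) = (Nat.card G : ℂ)⁻¹ * ((d : ℂ) * (d : ℂ)) +
      (((e i : ℂ) * (Nat.card (H i) : ℂ))⁻¹ *
        (((a i : ℂ) + 1) * ((a i : ℂ) + 1) * (Nat.card (H i) : ℂ) +
          ((e i : ℂ) * (Nat.card (H i) : ℂ)) -
          ((a i : ℂ) + 1 + (e i : ℂ)) * ((a i : ℂ) + 1 + (e i : ℂ))) +
      ∑ j ∈ Finset.univ.erase i, ((e j : ℂ) * (Nat.card (H j) : ℂ))⁻¹ *
        (((Nat.card (H j) : ℂ) - 1) * ((a j : ℂ) * (a j : ℂ)))) := by
  have h := inner_formula hS (X_cf hD i) (X_cf hD i)
  rw [norm_of_signed ((hD i).irr _ (hD i).X_mem), hd,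
    ← Finset.add_sum_erase _ _ (Finset.mem_univ i)] at h
  refine h.trans ?_
  congr 1
  · simp
  congr 1
  · congr 1
    have h1 : psum (fun k : H i => X i k * conj (X i k)) =
      psum (fun k : H i => (((a i : ℂ) + 1) + 1 * z i k) * conj (((a i : ℂ) + 1) + 1 * z i k)) := by
      apply psum_congr
      intro k hk
      rw [(hD i).X_val k k.2 (fun h => hk (Subtype.ext h)), ha i]
      ring_nf
    rw [h1]
    simp only [psum]
    rw [sum_affine (hD i) _ _ (by simp) (by simp)]
    have h2 : z i ((1 : H i) : G) = (e i : ℂ) := (hD i).z_one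
    rw [h2]
    simp
  · apply Finset.sum_congr rfl
    intro j hj
    have hji : j ≠ i := Finset.ne_of_mem_erase hj
    congr 1
    have h1 : psum (fun k : H j => X i k * conj (X i k)) =
        psum (fun _ : H j => (a j : ℂ) * (a j : ℂ)) := by
      apply psum_congr
      intro k hk
      rw [X_val_cross hS hD hji.symm k.2 (fun h => hk (Subtype.ext h)), ha j]
      simp
    rw [h1, psum_const]

theorem T_orth_T (hS : Setup H e)
    (hD : ∀ i, LocalData (H i) (e i) (X i) (B i) (T i) (z i) (XX i)) {j l : ι} (hjl : j ≠ l) :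
    classInner (T j) (T l) = 0 := by
  apply (hD j).T_orth
  intro η hη
  rw [← classInner_conj_symm, (hD l).T_orth, map_zero]
  intro η' hη'
  exact cross_orth hS hD hjl.symm hη' hη

theorem inner_one_T (hD : ∀ i, LocalData (H i) (e i) (X i) (B i) (T i) (z i) (XX i)) (j : ι) :
    classInner (fun _ => (1 : ℂ)) (T j) = 0 := by
  rw [← classInner_conj_symm, (hD j).T_orth _ (hD j).orth_one, map_zero]

theorem inner_B_T (hS : Setup H e)
    (hD : ∀ i, LocalData (H i) (e i) (X i) (B i) (T i) (z i) (XX i)) {i j : ι} (hij : i ≠ j)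
    (a : ℤ) (ha : classInner (X j) (B i) = a) :
    classInner (B i) (T j) = ((Nat.card (H j) : ℂ) - 1) * (a : ℂ) := by
  obtain ⟨D, hDs, hT⟩ := (hD j).T_eq
  rw [hT, classInner_add_right, classInner_smul_right,
    classInner_eq_zero_of_suppOn (hS.cop i j hij) (hD i).B_supp hDs, add_zero,
    ← classInner_conj_symm, ha]
  simp

theorem bessel_B [DecidableEq ι] (hS : Setup H e)
    (hD : ∀ i, LocalData (H i) (e i) (X i) (B i) (T i) (z i) (XX i))
    (hh : ∀ i, 1 < Nat.card (H i)) (i : ι) (a : ι → ℤ)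
    (ha : ∀ j, classInner (X j) (B i) = a j) :
    ∑ j ∈ Finset.univ.erase i, (((Nat.card (H j) : ℝ) - 1) * (a j : ℝ)) ^ 2 /
      ((e j : ℝ) * ((Nat.card (H j) : ℝ) - 1)) ≤ (e i : ℝ) := by
  have he : ∀ j, (e j : ℝ) ≠ 0 := by
    intro j h
    have h1 := eh_ne_zero hS j
    apply h1
    have : e j = 0 := by exact_mod_cast h
    rw [this]
    simp
  have hb := bessel_le (Finset.univ.erase i) T
    (fun j => (e j : ℝ) * ((Nat.card (H j) : ℝ) - 1))
    (by
      intro j _
      apply mul_ne_zero (he j)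
      have : (1 : ℝ) < (Nat.card (H j) : ℝ) := by exact_mod_cast hh j
      linarith)
    (by
      intro j _ l _
      split_ifs with hjl
      · subst hjl
        rw [(hD j).T_norm]
        push_cast
        rfl
      · exact T_orth_T hS hD hjl)
    (B i - fun _ => 1)
  have h1 : classInner (B i - fun _ => 1) (B i - fun _ => 1) = (e i : ℂ) := by
    rw [classInner_sub_left, classInner_sub_right, classInner_sub_right, norm_B hS hD,
      inner_B_one hS hD, ← classInner_conj_symm (B i), inner_B_one hS hD, classInner_one_one]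
    simp
  rw [h1, Complex.natCast_re] at hb
  refine le_trans (le_of_eq ?_) hb
  apply Finset.sum_congr rfl
  intro j hj
  have hji : j ≠ i := Finset.ne_of_mem_erase hj
  congr 1
  rw [classInner_sub_left, inner_B_T hS hD hji.symm (a j) (ha j), inner_one_T hD, sub_zero]
  have : ((Nat.card (H j) : ℂ) - 1) * (a j : ℂ) = ((((Nat.card (H j) : ℝ) - 1) * (a j : ℝ) : ℝ) : ℂ) := by
    push_cast
    rfl
  rw [this, Complex.norm_real, Real.norm_eq_abs, sq_abs]

theorem parity_a (hodd : Odd (Nat.card G)) (hS : Setup H e)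
    (hD : ∀ i, LocalData (H i) (e i) (X i) (B i) (T i) (z i) (XX i)) {i j : ι} (hij : i ≠ j)
    (a b : ℤ) (ha : classInner (X i) (B j) = a) (hb : classInner (X j) (B i) = b) :
    Odd (a + b) := by
  obtain ⟨di, hdi, hdi'⟩ := odd_degree_of_signed hodd ((hD i).irr _ (hD i).X_mem)
  obtain ⟨dj, hdj, hdj'⟩ := odd_degree_of_signed hodd ((hD j).irr _ (hD j).X_mem)
  have hXi := gen_of_signed ((hD i).irr _ (hD i).X_mem)
  have hXj := gen_of_signed ((hD j).irr _ (hD j).X_mem)
  have h1 : classInner (B i + X i) (B j + X j) = ((a + b : ℤ) : ℂ) := by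
    rw [classInner_add_left, classInner_add_right, classInner_add_right,
      classInner_eq_zero_of_suppOn (hS.cop i j hij) (hD i).B_supp (hD j).B_supp,
      cross_orth hS hD hij (hD i).X_mem (hD j).X_mem, ha, ← classInner_conj_symm, hb]
    simp
    ring
  have h2 := parity hodd (gen_add (hD i).B_gen hXi) (gen_add (hD j).B_gen hXj) (hD i).real
    (hD j).real h1 (u := di) (v := dj)
    (by rw [Pi.add_apply, (hD i).B_supp.apply_one, hdi, zero_add])
    (by rw [Pi.add_apply, (hD j).B_supp.apply_one, hdj, zero_add])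
  have h3 : Odd (di * dj) := hdi'.mul hdj'
  have : a + b = (a + b - di * dj) + di * dj := by ring
  rw [this]
  exact h2.add_odd h3

theorem fht_contradiction [Nonempty ι] (hodd : Odd (Nat.card G)) (hS : Setup H e)
    (hD : ∀ i, LocalData (H i) (e i) (X i) (B i) (T i) (z i) (XX i))
    (hh : ∀ i, 1 < Nat.card (H i)) (he : ∀ i, 1 < e i)
    (hdvd : ∀ i, e i ∣ Nat.card (H i) - 1) : False := by
  classical
  choose u hu using hdvd
  have hh' : ∀ j, Nat.card (H j) = 1 + e j * u j := by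
    intro j
    have := hu j
    have := hh j
    omega
  have hoddh : ∀ j, Odd (Nat.card (H j)) :=
    fun j => Odd.of_dvd_nat hodd (Subgroup.card_subgroup_dvd_card _)
  have hodde : ∀ j, Odd (e j) := by
    intro j
    apply Odd.of_dvd_nat hodd
    rw [← hS.idx j]
    exact Dvd.dvd.mul_left (Dvd.intro _ rfl) _
  have hevenu : ∀ j, Even (u j) := by
    intro j
    by_contra hcon
    rw [Nat.not_even_iff_odd] at hcon
    have h1 : Odd (e j * u j) := (hodde j).mul hcon
    have h2 : Even (1 + e j * u j) := Odd.add_odd odd_one h1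
    rw [← hh' j] at h2
    exact (Nat.not_even_iff_odd.2 (hoddh j)) h2
  have hu2 : ∀ j, 2 ≤ u j := by
    intro j
    obtain ⟨k, hk⟩ := hevenu j
    have h1 : u j ≠ 0 := by
      intro h0
      have := hh' j
      rw [h0, mul_zero] at this
      have := hh j
      omega
    omega
  have hex : ∀ i j, ∃ n : ℤ, classInner (X i) (B j) = n := fun i j =>
    gen_inner_int (gen_of_signed ((hD i).irr _ (hD i).X_mem)) (hD j).B_gen
  choose a ha using hex
  obtain ⟨i, hi⟩ := Finite.exists_min (fun i => Nat.card (H i))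
  obtain ⟨d, hd, hd'⟩ := odd_degree_of_signed hodd ((hD i).irr _ (hD i).X_mem)
  have hmin : ∀ j, j ≠ i → Nat.card (H i) + 2 ≤ Nat.card (H j) := by
    intro j hji
    have h1 := hi j
    have h2 : Nat.card (H i) ≠ Nat.card (H j) := by
      intro heq
      have h3 := hS.cop i j hji.symm
      rw [heq, Nat.coprime_self] at h3
      have := hh j
      omega
    obtain ⟨k, hk⟩ := hoddh i
    obtain ⟨l, hl⟩ := hoddh j
    omega
  have hA : (1 : ℝ) = (Nat.card G : ℝ)⁻¹ +
      ∑ j, ((e j : ℝ) * (Nat.card (H j) : ℝ))⁻¹ * ((Nat.card (H j) : ℝ) - 1) := by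
    apply Complex.ofReal_injective
    push_cast
    exact sum_f hS
  have hB : (1 : ℝ) = (Nat.card G : ℝ)⁻¹ * ((d : ℝ) * (d : ℝ)) +
      (((e i : ℝ) * (Nat.card (H i) : ℝ))⁻¹ *
        (((a i i + 1 : ℤ) : ℝ) * ((a i i + 1 : ℤ) : ℝ) * (Nat.card (H i) : ℝ) +
          ((e i : ℝ) * (Nat.card (H i) : ℝ)) -
          (((a i i + 1 : ℤ) : ℝ) + (e i : ℝ)) * (((a i i + 1 : ℤ) : ℝ) + (e i : ℝ))) +
      ∑ j ∈ Finset.univ.erase i, ((e j : ℝ) * (Nat.card (H j) : ℝ))⁻¹ *
        (((Nat.card (H j) : ℝ) - 1) * ((a i j : ℝ) * (a i j : ℝ)))) := by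
    have := norm_X hS hD i (a i) (ha i) d hd
    apply Complex.ofReal_injective
    push_cast
    exact this
  have hC0 := bessel_B hS hD hh i (fun j => a j i) (fun j => ha j i)
  have hC1 : ∑ j ∈ Finset.univ.erase i, (a j i) ^ 2 * (u j : ℤ) ≤ (e i : ℤ) := by
    have h1 : ∑ j ∈ Finset.univ.erase i, (((Nat.card (H j) : ℝ) - 1) * (a j i : ℝ)) ^ 2 /
      ((e j : ℝ) * ((Nat.card (H j) : ℝ) - 1)) =
        ((∑ j ∈ Finset.univ.erase i, (a j i) ^ 2 * (u j : ℤ) : ℤ) : ℝ) := by
      push_cast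
      apply Finset.sum_congr rfl
      intro j _
      have h2 : (Nat.card (H j) : ℝ) - 1 = (e j : ℝ) * (u j : ℝ) := by
        have : (Nat.card (H j) : ℝ) = 1 + (e j : ℝ) * (u j : ℝ) := by exact_mod_cast hh' j
        rw [this]; ring
      have h3 : (e j : ℝ) ≠ 0 := by
        have : (1 : ℝ) < e j := by exact_mod_cast he j
        linarith
      have h4 : (u j : ℝ) ≠ 0 := by
        have : (2 : ℝ) ≤ u j := by exact_mod_cast hu2 j
        linarith
      rw [h2]
      field_simp
    rw [h1] at hC0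
    exact_mod_cast hC0
  have hC : ∑ j ∈ Finset.univ.erase i, (a j i) ^ 2 * (u j : ℤ) ≤ (e i : ℤ) - 1 := by
    have h1 : Even (∑ j ∈ Finset.univ.erase i, (a j i) ^ 2 * (u j : ℤ)) := by
      apply Finset.even_sum
      intro j _
      apply Even.mul_left
      exact_mod_cast hevenu j
    have h2 : Odd (e i : ℤ) := by exact_mod_cast hodde i
    have h3 : ∑ j ∈ Finset.univ.erase i, (a j i) ^ 2 * (u j : ℤ) ≠ (e i : ℤ) := by
      intro heq
      rw [heq] at h1
      exact (Int.not_even_iff_odd.2 h2) h1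
    omega
  have hP : ∀ j, j ≠ i → 1 ≤ (a i j) ^ 2 + (a j i) ^ 2 := by
    intro j hji
    have h1 := parity_a hodd hS hD hji.symm (a i j) (a j i) (ha i j) (ha j i)
    by_contra hcon
    have h2 : (a i j) ^ 2 + (a j i) ^ 2 ≤ 0 := by omega
    have h3 : a i j = 0 := by nlinarith [sq_nonneg (a i j), sq_nonneg (a j i)]
    have h4 : a j i = 0 := by nlinarith [sq_nonneg (a i j), sq_nonneg (a j i)]
    rw [h3, h4] at h1
    simp at h1
  have hd1 : 1 ≤ d ^ 2 := by
    have h1 : d ≠ 0 := by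
      rintro rfl
      simp at hd'
    have := sq_pos_of_ne_zero (a := d) h1 |>.le
    have h2 : 0 < d ^ 2 := by positivity
    omega
  exact arith i e u (fun j => Nat.card (H j)) (Nat.card G) (a i) (fun j => a j i) (a i i + 1) d
    Nat.card_pos hh' he hu2 hmin hA hB hC hP hd1

end Cfsg.Agent.Lib.Helper25.FHT
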