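import Cfsg.Agent.Lib.Helper15.Ind
import Cfsg.Prelude.Def_OddOrderLocal

/-!
# Induction of class functions supported on a TI-subgroup (helper25)
-/

set_option autoImplicit false
set_option linter.unusedSectionVars false
open Cfsg

namespace Cfsg.Agent.Lib.Helper25.FHT

open Cfsg.Agent.Lib.Helper15
open scoped ComplexConjugate

variable {G : Type*} [Group G] [Fintype G]

/-- `D` vanishes at `1` and off the conjugates of `H`. -/
def SuppOn (H : Subgroup G) (D : G → ℂ) : Prop :=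
  ∀ x, D x ≠ 0 → x ≠ 1 ∧ ∃ g : G, g * x * g⁻¹ ∈ H

theorem SuppOn.apply_one {H : Subgroup G} {D : G → ℂ} (h : SuppOn H D) : D 1 = 0 := by
  by_contra hne
  exact (h 1 hne).1 rfl

theorem suppOn_indFun (H L : Subgroup G) (α : L → ℂ)
    (hα : ∀ y : L, ((y : G) ∉ H ∨ y = 1) → α y = 0) : SuppOn H (indFun L α) := by
  intro x hx
  rw [indFun_apply] at hx
  have h1 : ∑ g : G, extendByZero L α (g⁻¹ * x * g) ≠ 0 := right_ne_zero_of_mul hx
  obtain ⟨g, -, hg⟩ := Finset.exists_ne_zero_of_sum_ne_zero h1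
  have hmem : g⁻¹ * x * g ∈ L := by
    by_contra hn
    exact hg (extendByZero_not_mem L α hn)
  rw [extendByZero_mem L α hmem] at hg
  have h2 : ¬ ((g⁻¹ * x * g) ∉ H ∨ (⟨g⁻¹ * x * g, hmem⟩ : L) = 1) := fun h => hg (hα _ h)
  simp only [not_or, not_not] at h2
  refine ⟨?_, g⁻¹, by rw [inv_inv]; exact h2.1⟩
  rintro rfl
  apply h2.2
  apply Subtype.ext
  simp

theorem indFun_apply_of_TI (H L : Subgroup G) (hHL : H ≤ L) (hTI : IsTISubset (H : Set G))
    (hN : Subgroup.normalizer (H : Set G) = L) (α : L → ℂ) (hαc : IsClassFunction L α)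
    (hα : ∀ y : L, ((y : G) ∉ H ∨ y = 1) → α y = 0) (x : G) (hx : x ∈ H) (hx1 : x ≠ 1) :
    indFun L α x = α ⟨x, hHL hx⟩ := by
  classical
  rw [indFun_apply]
  have h1 : ∀ g : G, extendByZero L α (g⁻¹ * x * g) = if g ∈ L then α ⟨x, hHL hx⟩ else 0 := by
    intro g
    split_ifs with hg
    · have hmem : g⁻¹ * x * g ∈ L := L.mul_mem (L.mul_mem (L.inv_mem hg) (hHL hx)) hg
      rw [extendByZero_mem L α hmem]
      have := hαc ⟨x, hHL hx⟩ (⟨g, hg⟩ : L)⁻¹
      rw [← this]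
      congr 1
      apply Subtype.ext
      simp
    · by_cases hmem : g⁻¹ * x * g ∈ L
      · rw [extendByZero_mem L α hmem]
        apply hα
        left
        intro hH
        apply hx1
        apply hTI g⁻¹ _ x hx (by rw [inv_inv]; exact hH)
        rw [hN]
        intro h
        exact hg (by simpa using L.inv_mem h)
      · exact extendByZero_not_mem L α hmem
  simp_rw [h1]
  rw [Finset.sum_ite, Finset.sum_const_zero, add_zero, Finset.sum_const, nsmul_eq_mul]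
  have h2 : (Finset.univ.filter (fun g : G => g ∈ L)).card = Nat.card L := by
    rw [Nat.card_eq_fintype_card, Fintype.card_subtype]
  rw [h2, ← mul_assoc, inv_mul_cancel₀ (card_ne_zero L), one_mul]

theorem mul_eq_zero_of_suppOn {H₁ H₂ : Subgroup G}
    (hcop : Nat.Coprime (Nat.card H₁) (Nat.card H₂)) {D₁ D₂ : G → ℂ} (h₁ : SuppOn H₁ D₁)
    (h₂ : SuppOn H₂ D₂) (x : G) : D₁ x = 0 ∨ D₂ x = 0 := by
  by_contra hcon
  simp only [not_or] at hcon
  obtain ⟨hx1, g₁, hg₁⟩ := h₁ x hcon.1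
  obtain ⟨-, g₂, hg₂⟩ := h₂ x hcon.2
  apply hx1
  have o1 : orderOf x ∣ Nat.card H₁ := by
    have : g₁ * x * g₁⁻¹ = MulAut.conj g₁ x := by simp
    have h := Subgroup.orderOf_dvd_natCard H₁ hg₁
    rwa [this, MulEquiv.orderOf_eq] at h
  have o2 : orderOf x ∣ Nat.card H₂ := by
    have : g₂ * x * g₂⁻¹ = MulAut.conj g₂ x := by simp
    have h := Subgroup.orderOf_dvd_natCard H₂ hg₂
    rwa [this, MulEquiv.orderOf_eq] at h
  exact orderOf_eq_one_iff.1 (Nat.eq_one_of_dvd_coprimes hcop o1 o2)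

theorem classInner_eq_zero_of_suppOn {H₁ H₂ : Subgroup G}
    (hcop : Nat.Coprime (Nat.card H₁) (Nat.card H₂)) {D₁ D₂ : G → ℂ} (h₁ : SuppOn H₁ D₁)
    (h₂ : SuppOn H₂ D₂) : classInner D₁ D₂ = 0 := by
  unfold classInner
  apply mul_eq_zero_of_right
  apply Finset.sum_eq_zero
  intro x _
  rcases mul_eq_zero_of_suppOn hcop h₁ h₂ x with h | h
  · rw [h, zero_mul]
  · rw [h, map_zero, mul_zero]

/-- a function supported on the conjugates of `H₁` vanishes on `H₂`. -/
theorem SuppOn.apply_eq_zero {H₁ H₂ : Subgroup G}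
    (hcop : Nat.Coprime (Nat.card H₁) (Nat.card H₂)) {D : G → ℂ} (h : SuppOn H₁ D) {x : G}
    (hx : x ∈ H₂) : D x = 0 := by
  by_contra hne
  obtain ⟨hx1, g₁, hg₁⟩ := h x hne
  apply hx1
  have o1 : orderOf x ∣ Nat.card H₁ := by
    have : g₁ * x * g₁⁻¹ = MulAut.conj g₁ x := by simp
    have h := Subgroup.orderOf_dvd_natCard H₁ hg₁
    rwa [this, MulEquiv.orderOf_eq] at h
  exact orderOf_eq_one_iff.1 (Nat.eq_one_of_dvd_coprimes hcop o1 (Subgroup.orderOf_dvd_natCard H₂ hx))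

end Cfsg.Agent.Lib.Helper25.FHT
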