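import Cfsg.Agent.Lib.Helper25.FHT.Parity
import Cfsg.Agent.Lib.Helper26.ConjFix

/-!
# Characters of a Frobenius group induced from the kernel (helper25)
-/

set_option autoImplicit false
set_option linter.unusedSectionVars false
open Cfsg

namespace Cfsg.Agent.Lib.Helper25.FHT

open Cfsg.Agent.Lib.Helper15 Cfsg.Agent.Lib.Helper26
open scoped ComplexConjugate

section reg

variable {K : Type*} [Group K] [Fintype K]

open Classical in
/-- the regular character as a function -/
noncomputable def regFun (K : Type*) [Group K] : K → ℂ :=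
  fun k => if k = 1 then (Nat.card K : ℂ) else 0

theorem regFun_eq : regFun K = (Representation.leftRegular ℂ K).character := by
  classical
  funext k
  rw [Cfsg.Agent.Lib.Helper3.char_leftRegular]
  unfold regFun
  congr

theorem regFun_one : regFun K 1 = (Nat.card K : ℂ) := by simp [regFun]

theorem regFun_ne {k : K} (hk : k ≠ 1) : regFun K k = 0 := by simp [regFun, hk]

theorem classInner_regFun_left (χ : K → ℂ) : classInner (regFun K) χ = conj (χ 1) := by
  rw [regFun_eq, Cfsg.Agent.Lib.Helper3.classInner_leftRegular]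

theorem classInner_regFun_right (χ : K → ℂ) : classInner χ (regFun K) = χ 1 := by
  rw [← classInner_conj_symm, classInner_regFun_left, Complex.conj_conj]

theorem regFun_isClassFunction : IsClassFunction K (regFun K) := by
  intro g h
  have : h * g * h⁻¹ = 1 ↔ g = 1 := by
    constructor
    · intro e
      have : g = h⁻¹ * (h * g * h⁻¹) * h := by group
      rw [this, e]; group
    · rintro rfl; group
  by_cases hg : g = 1
  · subst hg; simp
  · rw [regFun_ne hg, regFun_ne (fun e => hg (this.1 e))]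

theorem regFun_eq_sum [Fintype (IrrCharacter K)] :
    regFun K = ∑ χ : IrrCharacter K, (χ : K → ℂ) 1 • (χ : K → ℂ) := by
  rw [regFun_eq, Cfsg.Agent.Lib.Helper3.leftRegular_char_eq_sum]

theorem one_isClassFunction : IsClassFunction K (fun _ => (1 : ℂ)) := fun _ _ => rfl

theorem classInner_one_one : classInner (fun _ : K => (1 : ℂ)) (fun _ => 1) = 1 :=
  irr_inner_self Cfsg.Agent.Lib.Helper74.isIrrCharacter_one

/-- a class function whose multiplicities of the nonprincipal irreducible characters are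
proportional to the degrees is constant off the identity. -/
theorem const_of_proportional {ψ : K → ℂ} (hψ : IsClassFunction K ψ) (c : ℂ)
    (h : ∀ θ : K → ℂ, IsIrrCharacter K θ → θ ≠ (fun _ => 1) → classInner ψ θ = θ 1 * c)
    (k : K) (hk : k ≠ 1) : ψ k = classInner ψ (fun _ => 1) - c := by
  have h0 : ψ - ((classInner ψ (fun _ => 1) - c) • (fun _ => (1 : ℂ)) + c • regFun K) = 0 := by
    apply cf_eq_zero
    · apply Cfsg.Agent.Lib.Helper3.IsClassFunction.sub hψ
      apply Cfsg.Agent.Lib.Helper3.IsClassFunction.add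
      · exact Cfsg.Agent.Lib.Helper3.IsClassFunction.smul _ one_isClassFunction
      · exact Cfsg.Agent.Lib.Helper3.IsClassFunction.smul _ regFun_isClassFunction
    · intro χ hχ
      rw [classInner_sub_left, classInner_add_left, classInner_smul_left, classInner_smul_left,
        classInner_regFun_left]
      obtain ⟨n, hn⟩ := char_one_nat (irr_char hχ)
      by_cases h1 : χ = fun _ => 1
      · subst h1
        rw [classInner_one_one]
        simp
      · rw [h χ hχ h1, irr_inner_ne Cfsg.Agent.Lib.Helper74.isIrrCharacter_one hχ (Ne.symm h1), hn]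
        simp
        ring
  have h1 := congrFun h0 k
  simp only [Pi.sub_apply, Pi.add_apply, Pi.smul_apply, regFun_ne hk, smul_eq_mul, mul_one,
    mul_zero, add_zero, Pi.zero_apply] at h1
  exact sub_eq_zero.1 h1

/-- `ρ_K - 1` -/
noncomputable def augFun (K : Type*) [Group K] : K → ℂ := regFun K - fun _ => 1

theorem augFun_one : augFun K 1 = (Nat.card K : ℂ) - 1 := by simp [augFun, regFun_one]

theorem augFun_norm : classInner (augFun K) (augFun K) = (Nat.card K : ℂ) - 1 := by
  unfold augFun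
  rw [classInner_sub_left, classInner_sub_right, classInner_sub_right, classInner_regFun_left,
    classInner_regFun_left, classInner_regFun_right, classInner_one_one, regFun_one]
  simp

theorem augFun_eq_sum [Fintype (IrrCharacter K)] [DecidableEq (IrrCharacter K)] :
    augFun K = ∑ χ ∈ Finset.univ.erase (oneIrr : IrrCharacter K), (χ : K → ℂ) 1 • (χ : K → ℂ) := by
  unfold augFun
  rw [regFun_eq_sum, ← Finset.add_sum_erase _ _ (Finset.mem_univ (oneIrr : IrrCharacter K))]
  have : ((oneIrr : IrrCharacter K) : K → ℂ) 1 • ((oneIrr : IrrCharacter K) : K → ℂ)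
      = fun _ => 1 := by
    funext k
    simp [oneIrr]
  rw [this]
  abel

end reg

variable {L : Type*} [Group L] [Fintype L] (K : Subgroup L) [hK : K.Normal]

theorem inertia_iff (hC : ∀ k ∈ K, k ≠ 1 → Subgroup.centralizer ({k} : Set L) ≤ K) {θ : K → ℂ}
    (hθ : IsIrrCharacter K θ) (h1 : θ ≠ fun _ => 1) (g : L) : cj K g θ = θ ↔ g ∈ K := by
  constructor
  · intro h
    obtain ⟨n, hn1, m, hm⟩ := (exists_fixed_irr_iff K g).1 ⟨θ, hθ, h1, h⟩
    have h2 : (m : L)⁻¹ * g ∈ K := by
      apply hC n n.2 (fun h => hn1 (Subtype.ext h))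
      rw [Subgroup.mem_centralizer_singleton_iff]
      calc (m : L)⁻¹ * g * n = (m : L)⁻¹ * (g * n * g⁻¹) * g := by group
        _ = (m : L)⁻¹ * ((m : L) * n * (m : L)⁻¹) * g := by rw [hm]
        _ = n * ((m : L)⁻¹ * g) := by group
    have h3 : g = m * ((m : L)⁻¹ * g) := by group
    rw [h3]
    exact K.mul_mem m.2 h2
  · intro hg
    exact cj_of_mem K hg (irr_cf hθ)

theorem irr_of_mem (hC : ∀ k ∈ K, k ≠ 1 → Subgroup.centralizer ({k} : Set L) ≤ K) {χ : L → ℂ}
    (hχ : χ ∈ inducedIrrAbove K ⊥) : IsIrrCharacter L χ := by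
  obtain ⟨θ, hθ, h1, -, rfl⟩ := hχ
  rw [isIrr_iff]
  refine ⟨char_indFun K (irr_char hθ), ?_⟩
  rw [norm_indFun_normal K hθ]
  have : Nat.card {g : L // cj K g θ = θ} = Nat.card K :=
    Nat.card_congr (Equiv.subtypeEquivRight (inertia_iff K hC hθ h1))
  rw [this]
  exact inv_mul_cancel₀ (card_ne_zero K)

theorem vanish_of_mem {χ : L → ℂ} (hχ : χ ∈ inducedIrrAbove K ⊥) {g : L} (hg : g ∉ K) :
    χ g = 0 := by
  obtain ⟨θ, -, -, -, rfl⟩ := hχ
  exact indFun_normal_not_mem K θ hg

theorem conj_ne_of_mem (hodd : Odd (Nat.card L)) (hKtop : K ≠ ⊤)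
    (hC : ∀ k ∈ K, k ≠ 1 → Subgroup.centralizer ({k} : Set L) ≤ K) {χ : L → ℂ}
    (hχ : χ ∈ inducedIrrAbove K ⊥) : conjFun χ ≠ χ := by
  intro h
  have h1 := Cfsg.Agent.Lib.Helper81.IsIrrCharacter.eq_one_of_real_of_odd hodd (irr_of_mem K hC hχ)
    (fun g => Complex.conj_eq_iff_im.1 (congrFun h g))
  obtain ⟨g, hg⟩ : ∃ g : L, g ∉ K := by
    by_contra hcon
    simp only [not_exists, not_not] at hcon
    exact hKtop (eq_top_iff.2 (fun g _ => hcon g))
  have h2 := vanish_of_mem K hχ hg
  rw [h1] at h2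
  exact one_ne_zero h2

theorem ne_one_of_mem (hKtop : K ≠ ⊤) {χ : L → ℂ}
    (hχ : χ ∈ inducedIrrAbove K ⊥) : χ ≠ fun _ => 1 := by
  intro h1
  obtain ⟨g, hg⟩ : ∃ g : L, g ∉ K := by
    by_contra hcon
    simp only [not_exists, not_not] at hcon
    exact hKtop (eq_top_iff.2 (fun g _ => hcon g))
  have h2 := vanish_of_mem K hχ hg
  rw [h1] at h2
  exact one_ne_zero h2

theorem exists_linear_theta (hsolv : Group.IsSolvable K) (hK1 : K ≠ ⊥) :
    ∃ θ₀ : K → ℂ, IsIrrCharacter K θ₀ ∧ θ₀ ≠ (fun _ => 1) ∧ θ₀ 1 = 1 := by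
  obtain ⟨χ, ⟨θ, hθ, h1, -, rfl⟩, hχ1⟩ := IndIrr.exists_linear K hsolv ⊥ (bot_lt_iff_ne_bot.2 hK1)
  refine ⟨θ, hθ, h1, ?_⟩
  rw [indFun_one] at hχ1
  have hne : (K.index : ℂ) ≠ 0 := by
    exact_mod_cast (Subgroup.index_ne_zero_of_finite (H := K))
  exact mul_left_cancel₀ hne (by rw [hχ1, mul_one])

theorem mem_S {θ : K → ℂ} (hθ : IsIrrCharacter K θ) (h1 : θ ≠ fun _ => 1) :
    indFun K θ ∈ inducedIrrAbove K ⊥ := by
  refine ⟨θ, hθ, h1, ?_, rfl⟩
  intro a ha
  have : a = 1 := Subtype.ext (Subgroup.mem_bot.1 ha)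
  rw [this]

variable [Fintype K]

/-- Constancy on the kernel. -/
theorem const_on_kernel {θ₀ : K → ℂ} (hθ₀ : IsIrrCharacter K θ₀) (hθ₀1 : θ₀ ≠ fun _ => 1)
    (hlin : θ₀ 1 = 1) {φ : L → ℂ} (hφ : IsClassFunction L φ)
    (horth : ∀ α ∈ zspanOn (inducedIrrAbove K ⊥) {1}ᶜ, classInner φ α = 0) (k : K) (hk : k ≠ 1) :
    φ k = classInner φ (indFun K (fun _ => 1) - indFun K θ₀) := by
  have hψ : IsClassFunction K (fun k : K => φ k) := fun g h => hφ g h
  rw [classInner_sub_right, classInner_indFun_right K _ _ hφ, classInner_indFun_right K _ _ hφ]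
  apply const_of_proportional hψ _ _ k hk
  intro θ hθ h1
  obtain ⟨d, hd⟩ := char_one_nat (irr_char hθ)
  have hα : indFun K θ - (d : ℤ) • indFun K θ₀ ∈ zspanOn (inducedIrrAbove K ⊥) {1}ᶜ := by
    rw [mem_zspanOn_one]
    refine ⟨zspan_sub (mem_zspan (mem_S K hθ h1)) (zspan_zsmul _ (mem_zspan (mem_S K hθ₀ hθ₀1))), ?_⟩
    simp only [Pi.sub_apply, Pi.smul_apply, indFun_one, hd, hlin]
    simp
    ring
  have h2 := horth _ hα
  rw [classInner_sub_right, Cfsg.Agent.Lib.Helper26.classInner_zsmul_right,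
    classInner_indFun_right K _ _ hφ, classInner_indFun_right K _ _ hφ] at h2
  rw [hd]
  have := sub_eq_zero.1 h2
  rw [this]
  simp

theorem cj_augFun (g : L) : cj K g (augFun K) = augFun K := by
  funext k
  rw [cj_apply]
  unfold augFun
  simp only [Pi.sub_apply]
  congr 1
  by_cases hk : k = 1
  · subst hk
    congr 1
    apply Subtype.ext
    simp
  · rw [regFun_ne hk, regFun_ne]
    intro h
    apply hk
    have h1 : g * (k : L) * g⁻¹ = 1 := congrArg Subtype.val h
    apply Subtype.ext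
    have : (k : L) = g⁻¹ * (g * k * g⁻¹) * g := by group
    rw [this, h1]
    simp

/-- `Ind (ρ_K - 1)` -/
noncomputable def RFun : L → ℂ := indFun K (augFun K)

theorem RFun_mem : RFun K ∈ zspan (inducedIrrAbove K ⊥) := by
  classical
  have := Fintype.ofFinite (IrrCharacter K)
  unfold RFun
  rw [augFun_eq_sum, indFun_sum]
  apply Submodule.sum_mem
  intro χ hχ
  obtain ⟨d, hd⟩ := char_one_nat (irr_char χ.2)
  rw [indFun_smul, hd, natCast_smul_eq]
  apply zspan_zsmul
  apply mem_zspan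
  apply mem_S K χ.2
  intro h
  exact Finset.ne_of_mem_erase hχ (Subtype.ext h)

theorem RFun_one : RFun K 1 = (K.index : ℂ) * ((Nat.card K : ℂ) - 1) := by
  unfold RFun
  rw [indFun_one, augFun_one]

theorem RFun_norm : classInner (RFun K) (RFun K) = (K.index : ℂ) * ((Nat.card K : ℂ) - 1) := by
  unfold RFun
  rw [classInner_indFun_left K _ _ (indFun_isClassFunction K _),
    restrict_indFun_of_invariant K _ (cj_augFun K), classInner_smul_right, augFun_norm]
  simp

theorem RFun_not_mem {g : L} (hg : g ∉ K) : RFun K g = 0 := indFun_normal_not_mem K _ hg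

theorem cj_one (g : L) : cj K g (fun _ => (1 : ℂ)) = fun _ => 1 := rfl

theorem indFun_one_coe (k : K) : indFun K (fun _ => (1 : ℂ)) k = (K.index : ℂ) := by
  have := congrFun (restrict_indFun_of_invariant K _ (cj_one K)) k
  simpa using this

theorem inner_zeta_ind_one {θ₀ : K → ℂ} (hθ₀ : IsIrrCharacter K θ₀) (hθ₀1 : θ₀ ≠ fun _ => 1) :
    classInner (indFun K θ₀) (indFun K (fun _ => (1 : ℂ))) = 0 := by
  rw [classInner_indFun_left K _ _ (indFun_isClassFunction K _),
    restrict_indFun_of_invariant K _ (cj_one K), classInner_smul_right,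
    irr_inner_ne hθ₀ Cfsg.Agent.Lib.Helper74.isIrrCharacter_one hθ₀1, mul_zero]

theorem sum_zeta {θ₀ : K → ℂ} (hθ₀ : IsIrrCharacter K θ₀) (hθ₀1 : θ₀ ≠ fun _ => 1) :
    ∑ k : K, indFun K θ₀ k = 0 := by
  have h := inner_zeta_ind_one K hθ₀ hθ₀1
  rw [classInner_indFun_right K _ _ (indFun_isClassFunction K _)] at h
  unfold classInner at h
  rcases mul_eq_zero.1 h with h | h
  · exact absurd h (inv_ne_zero (card_ne_zero K))
  · simpa using h

theorem sum_zeta_sq {χ : L → ℂ} (hχ : IsIrrCharacter L χ) (hv : ∀ g : L, g ∉ K → χ g = 0) :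
    ∑ k : K, χ k * conj (χ k) = (Nat.card L : ℂ) := by
  have h := (vanishes_off_iff K χ).1 hv
  rw [irr_inner_self hχ, mul_one] at h
  rw [h]
  unfold classInner
  rw [mul_inv_cancel_left₀ (card_ne_zero K)]

end Cfsg.Agent.Lib.Helper25.FHT
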