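import Cfsg.Agent.Lib.Helper25.FHT.Local
import Cfsg.Agent.Lib.Helper25.FHT.Induce
import Cfsg.Agent.Lib.Helper25.FHT.Frob
import Cfsg.Agent.S1529

/-!
# The local data attached to one Frobenius TI-pair `(H, L)` with a coherent family (helper25)
-/

set_option autoImplicit false
set_option linter.unusedSectionVars false
open Cfsg

namespace Cfsg.Agent.Lib.Helper25.FHT

open Cfsg.Agent.Lib.Helper15 Cfsg.Agent.Lib.Helper26
open scoped ComplexConjugate

/-- what the global argument needs to know about one pair `(H, L)` -/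
structure LocalData {G : Type*} [Group G] [Fintype G] (H : Subgroup G) [Fintype H] (e : ℕ)
    (X B T z : G → ℂ) (XX : Set (G → ℂ)) : Prop where
  X_mem : X ∈ XX
  irr : ∀ χ ∈ XX, IsIrrCharacter G χ ∨ IsIrrCharacter G (-χ)
  partner : ∀ χ ∈ XX, ∃ χ' ∈ XX, classInner χ χ' = 0 ∧ χ 1 = χ' 1 ∧ SuppOn H (χ - χ')
  orth_one : ∀ χ ∈ XX, classInner χ (fun _ => 1) = 0
  const : ∀ Y : G → ℂ, IsClassFunction G Y → (∀ η ∈ XX, classInner Y η = 0) →
    ∀ x ∈ H, x ≠ 1 → Y x = classInner Y B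
  X_val : ∀ x ∈ H, x ≠ 1 → X x = z x + (classInner X B + 1)
  T_eq : ∃ D : G → ℂ, SuppOn H D ∧ T = ((Nat.card H : ℂ) - 1) • X + D
  T_norm : classInner T T = (e : ℂ) * ((Nat.card H : ℂ) - 1)
  T_orth : ∀ Y : G → ℂ, (∀ η ∈ XX, classInner η Y = 0) → classInner T Y = 0
  B_gen : IsGeneralizedCharacter G B
  B_supp : SuppOn H B
  B_val : ∀ x ∈ H, x ≠ 1 → B x = (e : ℂ) - z x
  real : conjFun (B + X) = B + X
  z_one : z 1 = (e : ℂ)
  z_sum : ∑ k : H, z k = 0
  z_sq : ∑ k : H, z k * conj (z k) = (e : ℂ) * (Nat.card H : ℂ)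

section

variable {G : Type*} [Group G] [Fintype G] (H L : Subgroup G) [Fintype L]
  [hKn : (H.subgroupOf L).Normal]

theorem zspan_vanish {α : L → ℂ} (hα : α ∈ zspan (inducedIrrAbove (H.subgroupOf L) ⊥)) {y : L}
    (hy : (y : G) ∉ H) : α y = 0 := by
  induction hα using Submodule.span_induction with
  | mem a ha => exact vanish_of_mem _ ha (fun h => hy (Subgroup.mem_subgroupOf.1 h))
  | zero => rfl
  | add a b _ _ iha ihb => simp [iha, ihb]
  | smul n a _ iha => simp [iha]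

theorem zspan_gen' {α : L → ℂ} (hα : α ∈ zspan (inducedIrrAbove (H.subgroupOf L) ⊥)) :
    IsGeneralizedCharacter L α :=
  zspan_gen (fun χ hχ => gen_of_char (IndIrr.isChar _ hχ)) α hα

theorem zspan_cf {α : L → ℂ} (hα : α ∈ zspan (inducedIrrAbove (H.subgroupOf L) ⊥)) :
    IsClassFunction L α := gen_classFunction (zspan_gen' H L hα)

theorem zspanOn_vanish {α : L → ℂ}
    (hα : α ∈ zspanOn (inducedIrrAbove (H.subgroupOf L) ⊥) {1}ᶜ) (y : L)
    (hy : (y : G) ∉ H ∨ y = 1) : α y = 0 := by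
  rcases hy with hy | rfl
  · exact zspan_vanish H L hα.1 hy
  · exact (mem_zspanOn_one.1 hα).2

theorem suppOn_of_zspanOn {α : L → ℂ}
    (hα : α ∈ zspanOn (inducedIrrAbove (H.subgroupOf L) ⊥) {1}ᶜ) : SuppOn H (indFun L α) :=
  suppOn_indFun H L α (zspanOn_vanish H L hα)

variable {τ₁ : (L → ℂ) → (G → ℂ)}
  (hiso : IsLinearIsometryOn (zspan (inducedIrrAbove (H.subgroupOf L) ⊥)) τ₁)
  (hag : ∀ α ∈ zspanOn (inducedIrrAbove (H.subgroupOf L) ⊥) {1}ᶜ, τ₁ α = indFun L α)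

include hiso in
theorem inner_right_zero {Y : G → ℂ}
    (hY : ∀ η ∈ τ₁ '' (inducedIrrAbove (H.subgroupOf L) ⊥), classInner Y η = 0) {a : L → ℂ}
    (ha : a ∈ zspan (inducedIrrAbove (H.subgroupOf L) ⊥)) : classInner Y (τ₁ a) = 0 := by
  rw [← classInner_conj_symm]
  rw [inner_left_zero_of_span hiso (v := Y) _ a ha, map_zero]
  intro b hb
  rw [← classInner_conj_symm, hY _ ⟨b, hb, rfl⟩, map_zero]

variable (hC : ∀ k ∈ H.subgroupOf L, k ≠ 1 → Subgroup.centralizer ({k} : Set L) ≤ H.subgroupOf L)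
  (hoddL : Odd (Nat.card L)) (hKtop : H.subgroupOf L ≠ ⊤)

theorem conjFun_sub {X : Type*} (a b : X → ℂ) : conjFun (a - b) = conjFun a - conjFun b := by
  funext x; simp [conjFun]

theorem conjFun_add {X : Type*} (a b : X → ℂ) : conjFun (a + b) = conjFun a + conjFun b := by
  funext x; simp [conjFun]

theorem conjFun_smul {X : Type*} (c : ℂ) (a : X → ℂ) : conjFun (c • a) = conj c • conjFun a := by
  funext x; simp [conjFun]

theorem sub_conj_mem {ξ : L → ℂ} (hξ : ξ ∈ inducedIrrAbove (H.subgroupOf L) ⊥) :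
    ξ - conjFun ξ ∈ zspanOn (inducedIrrAbove (H.subgroupOf L) ⊥) {1}ᶜ := by
  rw [mem_zspanOn_one]
  refine ⟨zspan_sub (mem_zspan hξ) (mem_zspan (IndIrr.conj_mem _ hξ)), ?_⟩
  obtain ⟨n, hn⟩ := char_one_nat (IndIrr.isChar _ hξ)
  simp [conjFun, hn]

include hiso hag in
theorem tau_sub_conj {ξ : L → ℂ} (hξ : ξ ∈ inducedIrrAbove (H.subgroupOf L) ⊥) :
    τ₁ ξ - τ₁ (conjFun ξ) = indFun L (ξ - conjFun ξ) := by
  rw [← hag _ (sub_conj_mem H L hξ), iso_sub hiso (isZMod_zspan _) (mem_zspan hξ)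
    (mem_zspan (IndIrr.conj_mem _ hξ))]

include hiso hC hoddL hKtop in
theorem tau_inner_conj {ξ : L → ℂ} (hξ : ξ ∈ inducedIrrAbove (H.subgroupOf L) ⊥) :
    classInner (τ₁ ξ) (τ₁ (conjFun ξ)) = 0 := by
  rw [iso_inner hiso (mem_zspan hξ) (mem_zspan (IndIrr.conj_mem _ hξ))]
  exact irr_inner_ne (irr_of_mem _ hC hξ) (irr_of_mem _ hC (IndIrr.conj_mem _ hξ))
    (conj_ne_of_mem _ hoddL hKtop hC hξ).symm

include hiso hag hC hoddL hKtop in
theorem exists_eps (hne : (inducedIrrAbove (H.subgroupOf L) ⊥).Nonempty) :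
    ∃ ε : ℂ, (ε = 1 ∨ ε = -1) ∧
      ∀ χ ∈ inducedIrrAbove (H.subgroupOf L) ⊥, IsIrrCharacter G (ε • τ₁ χ) := by
  obtain ⟨ζ, hζ⟩ := hne
  obtain ⟨ε, hε, h1, -⟩ := Cfsg.Agent.S1529.result L (inducedIrrAbove (H.subgroupOf L) ⊥)
    (fun χ hχ => irr_of_mem _ hC hχ)
    ⟨ζ, hζ, conjFun ζ, IndIrr.conj_mem _ hζ, (conj_ne_of_mem _ hoddL hKtop hC hζ).symm⟩ τ₁ hiso
    (by
      intro α hα h1
      rw [hag α (mem_zspanOn_one.2 ⟨hα, h1⟩), indFun_one, h1, mul_zero])
  exact ⟨ε, hε, h1⟩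

include hiso hag hC hoddL hKtop in
theorem field_partner : ∀ χ ∈ τ₁ '' (inducedIrrAbove (H.subgroupOf L) ⊥),
    ∃ χ' ∈ τ₁ '' (inducedIrrAbove (H.subgroupOf L) ⊥),
      classInner χ χ' = 0 ∧ χ 1 = χ' 1 ∧ SuppOn H (χ - χ') := by
  rintro _ ⟨ξ, hξ, rfl⟩
  have hs : SuppOn H (τ₁ ξ - τ₁ (conjFun ξ)) := by
    rw [tau_sub_conj H L hiso hag hξ]
    exact suppOn_of_zspanOn H L (sub_conj_mem H L hξ)
  refine ⟨_, ⟨conjFun ξ, IndIrr.conj_mem _ hξ, rfl⟩, tau_inner_conj H L hiso hC hoddL hKtop hξ,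
    ?_, hs⟩
  have := hs.apply_one
  simpa [sub_eq_zero] using this

include hiso hag hC hoddL hKtop in
theorem field_orth_one : ∀ χ ∈ τ₁ '' (inducedIrrAbove (H.subgroupOf L) ⊥),
    classInner χ (fun _ => 1) = 0 := by
  rintro _ ⟨ξ, hξ, rfl⟩
  obtain ⟨ε, hε, hirr⟩ := exists_eps H L hiso hag hC hoddL hKtop ⟨ξ, hξ⟩
  have hε0 : ε ≠ 0 := by rcases hε with rfl | rfl <;> simp
  have hξ' := IndIrr.conj_mem _ hξ
  have h1 : classInner (τ₁ ξ) (fun _ => 1) = classInner (τ₁ (conjFun ξ)) (fun _ => 1) := by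
    rw [← sub_eq_zero, ← classInner_sub_left, tau_sub_conj H L hiso hag hξ,
      classInner_indFun_left L _ _ one_isClassFunction, classInner_sub_left,
      irr_inner_ne (irr_of_mem _ hC hξ) Cfsg.Agent.Lib.Helper74.isIrrCharacter_one
        (ne_one_of_mem _ hKtop hξ),
      irr_inner_ne (irr_of_mem _ hC hξ') Cfsg.Agent.Lib.Helper74.isIrrCharacter_one
        (ne_one_of_mem _ hKtop hξ'), sub_zero]
  by_contra hne
  have e1 : ε • τ₁ ξ = fun _ => 1 := by
    apply irr_eq_of_inner_ne_zero (hirr ξ hξ) Cfsg.Agent.Lib.Helper74.isIrrCharacter_one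
    rw [classInner_smul_left]
    exact mul_ne_zero hε0 hne
  have e2 : ε • τ₁ (conjFun ξ) = fun _ => 1 := by
    apply irr_eq_of_inner_ne_zero (hirr _ hξ') Cfsg.Agent.Lib.Helper74.isIrrCharacter_one
    rw [classInner_smul_left, ← h1]
    exact mul_ne_zero hε0 hne
  have h2 : classInner (ε • τ₁ ξ) (ε • τ₁ (conjFun ξ)) = 0 := by
    rw [classInner_smul_left, classInner_smul_right, tau_inner_conj H L hiso hC hoddL hKtop hξ]
    simp
  rw [e1, e2, classInner_one_one] at h2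
  exact one_ne_zero h2

variable [Fintype (H.subgroupOf L)] {θ₀ : H.subgroupOf L → ℂ}
  (hθ₀ : IsIrrCharacter (H.subgroupOf L) θ₀) (hθ₀1 : θ₀ ≠ fun _ => 1) (hlin : θ₀ 1 = 1)
  (hHL : H ≤ L)

/-- `β = Ind 1 - ζ` -/
noncomputable def betaFun (θ₀ : H.subgroupOf L → ℂ) : L → ℂ :=
  indFun (H.subgroupOf L) (fun _ => 1) - indFun (H.subgroupOf L) θ₀

include hiso hag hθ₀ hθ₀1 hlin hHL in
theorem field_const : ∀ Y : G → ℂ, IsClassFunction G Y →
    (∀ η ∈ τ₁ '' (inducedIrrAbove (H.subgroupOf L) ⊥), classInner Y η = 0) →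
    ∀ x ∈ H, x ≠ 1 → Y x = classInner Y (indFun L (betaFun H L θ₀)) := by
  intro Y hY horth x hx hx1
  have hφ : IsClassFunction L (fun y : L => Y y) := fun g h => hY g h
  have h1 := const_on_kernel (H.subgroupOf L) hθ₀ hθ₀1 hlin hφ (by
    intro α hα
    rw [← classInner_indFun_right L _ _ hY, ← hag α hα]
    exact inner_right_zero H L hiso horth hα.1) ⟨⟨x, hHL hx⟩, Subgroup.mem_subgroupOf.2 hx⟩
    (by
      intro h
      apply hx1
      exact congrArg (fun k : H.subgroupOf L => ((k : L) : G)) h)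
  rw [classInner_indFun_right L _ _ hY]
  exact h1

include hiso hag hC hθ₀ hθ₀1 hlin hHL in
theorem field_X_val : ∀ x ∈ H, x ≠ 1 → τ₁ (indFun (H.subgroupOf L) θ₀) x =
    extendByZero L (indFun (H.subgroupOf L) θ₀) x +
      (classInner (τ₁ (indFun (H.subgroupOf L) θ₀)) (indFun L (betaFun H L θ₀)) + 1) := by
  intro x hx hx1
  have hζ := mem_S (H.subgroupOf L) hθ₀ hθ₀1
  have hX : IsClassFunction G (τ₁ (indFun (H.subgroupOf L) θ₀)) :=
    gen_classFunction (iso_gen hiso (mem_zspan hζ))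
  have hXL : IsClassFunction L (fun y : L => τ₁ (indFun (H.subgroupOf L) θ₀) y) :=
    fun g h => hX g h
  have hφ : IsClassFunction L
      ((fun y : L => τ₁ (indFun (H.subgroupOf L) θ₀) y) - indFun (H.subgroupOf L) θ₀) :=
    Cfsg.Agent.Lib.Helper3.IsClassFunction.sub hXL (indFun_isClassFunction _ _)
  have h1 := const_on_kernel (H.subgroupOf L) hθ₀ hθ₀1 hlin hφ (by
    intro α hα
    rw [classInner_sub_left, ← classInner_indFun_right L _ _ hX, ← hag α hα,
      iso_inner hiso (mem_zspan hζ) hα.1, sub_self]) ⟨⟨x, hHL hx⟩, Subgroup.mem_subgroupOf.2 hx⟩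
    (by
      intro h
      apply hx1
      exact congrArg (fun k : H.subgroupOf L => ((k : L) : G)) h)
  rw [classInner_sub_left] at h1
  have h2 : classInner (indFun (H.subgroupOf L) θ₀)
      (indFun (H.subgroupOf L) (fun _ => 1) - indFun (H.subgroupOf L) θ₀) = -1 := by
    rw [classInner_sub_right, inner_zeta_ind_one _ hθ₀ hθ₀1,
      irr_inner_self (irr_of_mem _ hC hζ), zero_sub]
  rw [h2] at h1
  rw [classInner_indFun_right L _ _ hX, extendByZero_mem L _ (hHL hx)]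
  simp only [Pi.sub_apply] at h1
  unfold betaFun
  linear_combination h1

theorem betaFun_vanish (hlin : θ₀ 1 = 1) (y : L) (hy : (y : G) ∉ H ∨ y = 1) :
    betaFun H L θ₀ y = 0 := by
  unfold betaFun
  rcases hy with hy | rfl
  · have : y ∉ H.subgroupOf L := fun h => hy (Subgroup.mem_subgroupOf.1 h)
    simp [indFun_normal_not_mem _ _ this]
  · simp [indFun_one, hlin]

theorem betaFun_cf : IsClassFunction L (betaFun H L θ₀) :=
  Cfsg.Agent.Lib.Helper3.IsClassFunction.sub (indFun_isClassFunction _ _)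
    (indFun_isClassFunction _ _)

include hθ₀ in
theorem field_B_gen : IsGeneralizedCharacter G (indFun L (betaFun H L θ₀)) := by
  unfold betaFun
  rw [indFun_sub]
  exact gen_sub
    (gen_of_char (char_indFun L (char_indFun _
      (irr_char Cfsg.Agent.Lib.Helper74.isIrrCharacter_one))))
    (gen_of_char (char_indFun L (char_indFun _ (irr_char hθ₀))))

theorem field_B_val (hlin : θ₀ 1 = 1) (hHL : H ≤ L) (hTI : IsTISubset (H : Set G))
    (hN : Subgroup.normalizer (H : Set G) = L) : ∀ x ∈ H, x ≠ 1 →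
    indFun L (betaFun H L θ₀) x = ((H.subgroupOf L).index : ℂ) -
      extendByZero L (indFun (H.subgroupOf L) θ₀) x := by
  intro x hx hx1
  rw [indFun_apply_of_TI H L hHL hTI hN _ (betaFun_cf H L) (betaFun_vanish H L hlin) x hx hx1,
    extendByZero_mem L _ (hHL hx)]
  unfold betaFun
  rw [Pi.sub_apply]
  congr 1
  exact indFun_one_coe (H.subgroupOf L) ⟨⟨x, hHL hx⟩, Subgroup.mem_subgroupOf.2 hx⟩

include hiso hag hC hoddL hKtop in
theorem tau_conj {ξ : L → ℂ} (hξ : ξ ∈ inducedIrrAbove (H.subgroupOf L) ⊥) :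
    conjFun (τ₁ ξ) = τ₁ (conjFun ξ) := by
  obtain ⟨ε, hε, hirr⟩ := exists_eps H L hiso hag hC hoddL hKtop ⟨ξ, hξ⟩
  have hε0 : ε ≠ 0 := by rcases hε with rfl | rfl <;> simp
  have hεc : conj ε = ε := by rcases hε with rfl | rfl <;> simp
  have hξ' := IndIrr.conj_mem _ hξ
  have hc : conjFun (τ₁ ξ) - conjFun (τ₁ (conjFun ξ)) = τ₁ (conjFun ξ) - τ₁ ξ := by
    rw [← conjFun_sub, tau_sub_conj H L hiso hag hξ, ← IndIrr.indFun_conj, conjFun_sub,
      Cfsg.Agent.S1517.conj_conj, ← neg_sub (τ₁ ξ), tau_sub_conj H L hiso hag hξ, ← indFun_neg,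
      neg_sub]
  have i1 := hirr ξ hξ
  have i2 := hirr _ hξ'
  have hc' : conjFun (ε • τ₁ ξ) - conjFun (ε • τ₁ (conjFun ξ))
      = ε • τ₁ (conjFun ξ) - ε • τ₁ ξ := by
    rw [conjFun_smul, conjFun_smul, hεc, ← smul_sub, hc, smul_sub]
  have h12 : classInner (ε • τ₁ ξ) (ε • τ₁ (conjFun ξ)) = 0 := by
    rw [classInner_smul_left, classInner_smul_right, tau_inner_conj H L hiso hC hoddL hKtop hξ]
    simp
  have key : conjFun (ε • τ₁ ξ) = ε • τ₁ (conjFun ξ) := by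
    by_contra hne
    have h0 := irr_inner_ne (IndIrr.irr_conj i1) i2 hne
    have h1 := congrArg (fun f => classInner f (ε • τ₁ (conjFun ξ))) hc'
    simp only [classInner_sub_left, h0, h12, irr_inner_self i2] at h1
    by_cases h2 : conjFun (ε • τ₁ (conjFun ξ)) = ε • τ₁ (conjFun ξ)
    · rw [h2, irr_inner_self i2] at h1
      norm_num at h1
    · rw [irr_inner_ne (IndIrr.irr_conj i2) i2 h2] at h1
      norm_num at h1
  rw [conjFun_smul, hεc] at key
  funext x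
  have := congrFun key x
  simp only [Pi.smul_apply, smul_eq_mul] at this
  exact mul_left_cancel₀ hε0 this

include hiso hag hC hoddL hKtop hθ₀ hθ₀1 in
theorem field_real : conjFun (indFun L (betaFun H L θ₀) + τ₁ (indFun (H.subgroupOf L) θ₀)) =
    indFun L (betaFun H L θ₀) + τ₁ (indFun (H.subgroupOf L) θ₀) := by
  have hζ := mem_S (H.subgroupOf L) hθ₀ hθ₀1
  rw [conjFun_add, tau_conj H L hiso hag hC hoddL hKtop hζ, ← IndIrr.indFun_conj]
  have h1 : conjFun (betaFun H L θ₀) = betaFun H L θ₀ +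
      (indFun (H.subgroupOf L) θ₀ - conjFun (indFun (H.subgroupOf L) θ₀)) := by
    unfold betaFun
    rw [conjFun_sub, ← IndIrr.indFun_conj]
    have : conjFun (fun _ : H.subgroupOf L => (1 : ℂ)) = fun _ => 1 := by
      funext x; simp [conjFun]
    rw [this]
    abel
  rw [h1, indFun_add, ← tau_sub_conj H L hiso hag hζ]
  abel

include hiso hag hθ₀ hθ₀1 hlin in
theorem field_T_eq : ∃ D : G → ℂ, SuppOn H D ∧ τ₁ (RFun (H.subgroupOf L)) =
    ((Nat.card (H.subgroupOf L) : ℂ) - 1) • τ₁ (indFun (H.subgroupOf L) θ₀) + D := by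
  have hζ := mem_S (H.subgroupOf L) hθ₀ hθ₀1
  have hα : RFun (H.subgroupOf L) - ((Nat.card (H.subgroupOf L) : ℤ) - 1) •
      indFun (H.subgroupOf L) θ₀ ∈ zspanOn (inducedIrrAbove (H.subgroupOf L) ⊥) {1}ᶜ := by
    rw [mem_zspanOn_one]
    refine ⟨zspan_sub (RFun_mem _) (zspan_zsmul _ (mem_zspan hζ)), ?_⟩
    simp only [Pi.sub_apply, Pi.smul_apply, RFun_one, indFun_one, hlin]
    simp
    ring
  refine ⟨_, suppOn_of_zspanOn H L hα, ?_⟩
  rw [← hag _ hα, iso_sub hiso (isZMod_zspan _) (RFun_mem _) (zspan_zsmul _ (mem_zspan hζ)),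
    iso_zsmul hiso _ (mem_zspan hζ)]
  funext x
  simp

include hiso in
theorem field_T_norm : classInner (τ₁ (RFun (H.subgroupOf L))) (τ₁ (RFun (H.subgroupOf L))) =
    ((H.subgroupOf L).index : ℂ) * ((Nat.card (H.subgroupOf L) : ℂ) - 1) := by
  rw [iso_inner hiso (RFun_mem _) (RFun_mem _), RFun_norm]

include hiso in
theorem field_T_orth : ∀ Y : G → ℂ,
    (∀ η ∈ τ₁ '' (inducedIrrAbove (H.subgroupOf L) ⊥), classInner η Y = 0) →
    classInner (τ₁ (RFun (H.subgroupOf L))) Y = 0 := by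
  intro Y hY
  exact inner_left_zero_of_span hiso (fun a ha => hY _ ⟨a, ha, rfl⟩) _ (RFun_mem _)

theorem sum_H_eq [Fintype H] (hHL : H ≤ L) (f : L → ℂ) (F : ℂ → ℂ) :
    ∑ k : H, F (extendByZero L f k) = ∑ k : H.subgroupOf L, F (f k) := by
  symm
  apply Fintype.sum_equiv (Subgroup.subgroupOfEquivOfLe hHL).toEquiv
  intro k
  have : (((Subgroup.subgroupOfEquivOfLe hHL).toEquiv k : H) : G) = ((k : L) : G) := rfl
  rw [this, extendByZero_coe]

end

theorem localData_of_coherent {G : Type*} [Group G] [Fintype G] (H L : Subgroup G) [Fintype L]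
    [Fintype H] [hKn : (H.subgroupOf L).Normal] (hoddL : Odd (Nat.card L)) (hHL : H ≤ L)
    (hK1 : H.subgroupOf L ≠ ⊥) (hKtop : H.subgroupOf L ≠ ⊤)
    (hC : ∀ k ∈ H.subgroupOf L, k ≠ 1 → Subgroup.centralizer ({k} : Set L) ≤ H.subgroupOf L)
    (hsolv : Group.IsSolvable (H.subgroupOf L)) (hTI : IsTISubset (H : Set G))
    (hN : Subgroup.normalizer (H : Set G) = L)
    (hcoh : IsCoherent (inducedIrrAbove (H.subgroupOf L) ⊥) {1}ᶜ
      (fun α : L → ℂ => indFun L α)) :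
    ∃ (X B T z : G → ℂ) (XX : Set (G → ℂ)), LocalData H (H.subgroupOf L).index X B T z XX := by
  classical
  have := Fintype.ofFinite (H.subgroupOf L)
  obtain ⟨-, τ₁, hiso, hag⟩ := hcoh
  obtain ⟨θ₀, hθ₀, hθ₀1, hlin⟩ := exists_linear_theta (H.subgroupOf L) hsolv hK1
  have hζ := mem_S (H.subgroupOf L) hθ₀ hθ₀1
  have hcard : Nat.card (H.subgroupOf L) = Nat.card H :=
    Nat.card_congr (Subgroup.subgroupOfEquivOfLe hHL).toEquiv
  refine ⟨τ₁ (indFun (H.subgroupOf L) θ₀), indFun L (betaFun H L θ₀),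
    τ₁ (RFun (H.subgroupOf L)), extendByZero L (indFun (H.subgroupOf L) θ₀),
    τ₁ '' (inducedIrrAbove (H.subgroupOf L) ⊥), ?_⟩
  refine
    { X_mem := ⟨_, hζ, rfl⟩
      irr := ?_
      partner := field_partner H L hiso hag hC hoddL hKtop
      orth_one := field_orth_one H L hiso hag hC hoddL hKtop
      const := field_const H L hiso hag hθ₀ hθ₀1 hlin hHL
      X_val := field_X_val H L hiso hag hC hθ₀ hθ₀1 hlin hHL
      T_eq := ?_
      T_norm := ?_
      T_orth := field_T_orth H L hiso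
      B_gen := field_B_gen H L hθ₀
      B_supp := suppOn_indFun H L _ (betaFun_vanish H L hlin)
      B_val := field_B_val H L hlin hHL hTI hN
      real := field_real H L hiso hag hC hoddL hKtop hθ₀ hθ₀1
      z_one := ?_
      z_sum := ?_
      z_sq := ?_ }
  · rintro _ ⟨ξ, hξ, rfl⟩
    obtain ⟨ε, hε, hirr⟩ := exists_eps H L hiso hag hC hoddL hKtop ⟨ξ, hξ⟩
    have := hirr ξ hξ
    rcases hε with rfl | rfl
    · left; simpa using this
    · right; simpa using this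
  · rw [← hcard]
    exact field_T_eq H L hiso hag hθ₀ hθ₀1 hlin
  · rw [← hcard]
    exact field_T_norm H L hiso
  · rw [extendByZero_mem L _ L.one_mem]
    have : (⟨1, L.one_mem⟩ : L) = 1 := rfl
    rw [this, indFun_one, hlin, mul_one]
  · have := sum_H_eq H L hHL (indFun (H.subgroupOf L) θ₀) id
    simp only [id] at this
    rw [this]
    exact sum_zeta _ hθ₀ hθ₀1
  · have := sum_H_eq H L hHL (indFun (H.subgroupOf L) θ₀) (fun c => c * conj c)
    rw [this, sum_zeta_sq _ (irr_of_mem _ hC hζ) (fun g hg => vanish_of_mem _ hζ hg), ← hcard,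
      ← Nat.cast_mul, mul_comm, Subgroup.card_mul_index]

end Cfsg.Agent.Lib.Helper25.FHT
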