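import Cfsg.Agent.Lib.Helper25.FHT.Global

/-!
# Feit–Hall–Thompson: no partition of a group of odd order by Frobenius kernels,
assuming Sibley's coherence theorem as a hypothesis (helper25)
-/

set_option autoImplicit false
set_option linter.unusedSectionVars false
open Cfsg

namespace Cfsg.Agent.Lib.Helper25.FHT

universe u

/-- the statement of Sibley's coherence theorem (statement S1524) -/
def Sibley : Prop :=
  ∀ {G : Type u} [Group G] [Fintype G] (H L W₁ : Subgroup G) [Fintype L]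
    (_ : Odd (Nat.card L)) (_ : H ≤ L) (_ : W₁ ≤ L) (_ : H ≠ ⊥) (_ : W₁ ≠ ⊥)
    (_ : Group.IsNilpotent H) (_ : ∀ x ∈ L, ∀ h ∈ H, x * h * x⁻¹ ∈ H) (_ : H ⊓ W₁ = ⊥)
    (_ : H ⊔ W₁ = L) (_ : ∀ w ∈ W₁, w ≠ 1 → ∀ h ∈ H, w * h = h * w → h = 1)
    (_ : Cfsg.IsTISubset (H : Set G)) (_ : Subgroup.normalizer (H : Set G) = L),
    Cfsg.IsCoherent (Cfsg.inducedIrrAbove (H.subgroupOf L) ⊥) {1}ᶜ
      (fun α : L → ℂ => Cfsg.indFun L α)

theorem exists_localData (hSib : Sibley.{u}) {G : Type u} [Group G] [Fintype G]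
    (hodd : Odd (Nat.card G)) (H L : Subgroup G) [Fintype H] (hHL : H < L) (hH1 : H ≠ ⊥)
    (hHn : ∀ x ∈ L, ∀ h ∈ H, x * h * x⁻¹ ∈ H)
    (hfrob : ∀ h ∈ H, h ≠ 1 → L ⊓ Subgroup.centralizer ({h} : Set G) ≤ H)
    (hTI : Cfsg.IsTISubset (H : Set G)) (hN : Subgroup.normalizer (H : Set G) = L) :
    ∃ (e : ℕ) (X B T z : G → ℂ) (XX : Set (G → ℂ)), LocalData H e X B T z XX ∧
      Nat.card L = e * Nat.card H ∧ 1 < e ∧ e ∣ Nat.card H - 1 := by
  classical
  have := Fintype.ofFinite L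
  have hKn : (H.subgroupOf L).Normal :=
    ⟨fun k hk x => Subgroup.mem_subgroupOf.2 (hHn x x.2 k (Subgroup.mem_subgroupOf.1 hk))⟩
  have hK1 : H.subgroupOf L ≠ ⊥ := by
    intro h
    apply hH1
    rw [eq_bot_iff]
    intro x hx
    have h1 : (⟨x, hHL.le hx⟩ : L) ∈ H.subgroupOf L := Subgroup.mem_subgroupOf.2 hx
    rw [h, Subgroup.mem_bot] at h1
    exact Subgroup.mem_bot.2 (congrArg Subtype.val h1)
  have hKtop : H.subgroupOf L ≠ ⊤ := by
    intro h
    rw [Subgroup.subgroupOf_eq_top] at h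
    exact absurd h (not_le_of_gt hHL)
  have hC : ∀ k ∈ H.subgroupOf L, k ≠ 1 →
      Subgroup.centralizer ({k} : Set L) ≤ H.subgroupOf L := by
    intro k hk hk1 y hy
    apply Subgroup.mem_subgroupOf.2
    apply hfrob k (Subgroup.mem_subgroupOf.1 hk) (fun h => hk1 (Subtype.ext h))
    refine Subgroup.mem_inf.2 ⟨y.2, ?_⟩
    rw [Subgroup.mem_centralizer_singleton_iff] at hy ⊢
    exact congrArg Subtype.val hy
  obtain ⟨-, hnil, hdvd, W, hW, hW1, hfpf⟩ := frobenius_structure (H.subgroupOf L) hK1 hKtop hC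
  have hcard : Nat.card (H.subgroupOf L) = Nat.card H :=
    Nat.card_congr (Subgroup.subgroupOfEquivOfLe hHL.le).toEquiv
  have hoddL : Odd (Nat.card L) := Odd.of_dvd_nat hodd (Subgroup.card_subgroup_dvd_card L)
  have hcoh := hSib H L (W.map L.subtype) hoddL hHL.le (Subgroup.map_subtype_le W) hH1
    (by
      intro h
      exact hW1 ((Subgroup.map_eq_bot_iff_of_injective _ (Subgroup.subtype_injective _)).1 h))
    (Group.nilpotent_of_mulEquiv (Subgroup.subgroupOfEquivOfLe hHL.le)) hHn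
    (by
      rw [eq_bot_iff]
      rintro x ⟨hxH, w, hw, rfl⟩
      have h1 : w ∈ H.subgroupOf L ⊓ W := Subgroup.mem_inf.2 ⟨Subgroup.mem_subgroupOf.2 hxH, hw⟩
      rw [hW.disjoint.eq_bot, Subgroup.mem_bot] at h1
      rw [h1]
      exact Subgroup.mem_bot.2 rfl)
    (by
      apply le_antisymm (sup_le hHL.le (Subgroup.map_subtype_le W))
      intro m hm
      obtain ⟨⟨k, w⟩, hkw⟩ := hW.2 ⟨m, hm⟩
      have h1 : ((k : L) : G) * ((w : L) : G) = m := congrArg Subtype.val hkw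
      rw [← h1]
      exact Subgroup.mul_mem_sup (Subgroup.mem_subgroupOf.1 k.2) ⟨w, w.2, rfl⟩)
    (by
      rintro _ ⟨w, hw, rfl⟩ hw1 h hh hcomm
      have h1 := hfpf w hw (fun h0 => hw1 (by rw [h0]; rfl)) ⟨h, hHL.le hh⟩
        (Subgroup.mem_subgroupOf.2 hh) (Subtype.ext hcomm)
      exact congrArg Subtype.val h1)
    hTI hN
  have hsolv : Group.IsSolvable (H.subgroupOf L) := inferInstance
  obtain ⟨X, B, T, z, XX, hD⟩ :=
    localData_of_coherent H L hoddL hHL.le hK1 hKtop hC hsolv hTI hN hcoh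
  refine ⟨_, X, B, T, z, XX, hD, ?_, ?_, ?_⟩
  · rw [← hcard, Subgroup.index_mul_card]
  · have h1 : (H.subgroupOf L).index ≠ 1 := fun h => hKtop (Subgroup.index_eq_one.1 h)
    have h2 : (H.subgroupOf L).index ≠ 0 := Subgroup.index_ne_zero_of_finite
    omega
  · rw [← hcard]
    exact hdvd

theorem fht_of_sibley (hSib : Sibley.{u}) {G : Type u} [Group G] [Finite G]
    (hodd : Odd (Nat.card G)) {ι : Type*} [Fintype ι] (hι : 2 ≤ Fintype.card ι)
    (L H : ι → Subgroup G) (hHL : ∀ i, H i < L i) (hH1 : ∀ i, H i ≠ ⊥)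
    (hHn : ∀ i, ∀ x ∈ L i, ∀ h ∈ H i, x * h * x⁻¹ ∈ H i)
    (hfrob : ∀ i, ∀ h ∈ H i, h ≠ 1 → L i ⊓ Subgroup.centralizer ({h} : Set G) ≤ H i)
    (hcop : ∀ i j, i ≠ j → Nat.Coprime (Nat.card (H i)) (Nat.card (H j)))
    (hTI : ∀ i, Cfsg.IsTISubset (H i : Set G) ∧ Subgroup.normalizer (H i : Set G) = L i)
    (hcover : ∀ g : G, g ≠ 1 → ∃ i, ∃ x : G, x * g * x⁻¹ ∈ H i) : False := by
  classical
  have := Fintype.ofFinite G
  have inst : ∀ i, Fintype (H i) := fun i => Fintype.ofFinite _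
  have hne : Nonempty ι := by
    rw [← Fintype.card_pos_iff]
    omega
  have hex := fun i => exists_localData hSib hodd (H i) (L i) (hHL i) (hH1 i) (hHn i) (hfrob i)
    (hTI i).1 (hTI i).2
  choose e X B T z XX hD hcard he hdvd using hex
  have hS : Setup H e :=
    { cop := hcop
      ti := fun i => (hTI i).1
      cover := hcover
      idx := by
        intro i
        rw [(hTI i).2, ← hcard i, Subgroup.index_mul_card] }
  have hh : ∀ i, 1 < Nat.card (H i) := by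
    intro i
    exact (Subgroup.one_lt_card_iff_ne_bot _).2 (hH1 i)
  exact fht_contradiction hodd hS hD hh he hdvd

end Cfsg.Agent.Lib.Helper25.FHT
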