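import Cfsg.Agent.Lib.Helper26.IndIrr
import Cfsg.Agent.Lib.Helper26.Coh
import Cfsg.Agent.Lib.Helper81.FSChar
import Cfsg.Agent.Lib.Helper80.CoreDvd

/-!
# Parity of inner products of real-valued virtual characters in groups of odd order (helper25)
-/

set_option autoImplicit false
open Cfsg

namespace Cfsg.Agent.Lib.Helper25.FHT

open Cfsg.Agent.Lib.Helper3 Cfsg.Agent.Lib.Helper26
open scoped ComplexConjugate

variable {G : Type*} [Group G] [Fintype G]

/-- the complex conjugate of an irreducible character -/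
noncomputable def bar (χ : IrrCharacter G) : IrrCharacter G :=
  ⟨conjFun χ, IndIrr.irr_conj χ.2⟩

theorem bar_bar (χ : IrrCharacter G) : bar (bar χ) = χ :=
  Subtype.ext (Cfsg.Agent.S1517.conj_conj _)

/-- the principal character -/
noncomputable def oneIrr : IrrCharacter G := ⟨fun _ => 1, Cfsg.Agent.Lib.Helper74.isIrrCharacter_one⟩

theorem bar_ne (hodd : Odd (Nat.card G)) {χ : IrrCharacter G} (h : χ ≠ oneIrr) : bar χ ≠ χ := by
  intro hb
  apply h
  apply Subtype.ext
  apply Cfsg.Agent.Lib.Helper81.IsIrrCharacter.eq_one_of_real_of_odd hodd χ.2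
  intro g
  have h1 : conj ((χ : G → ℂ) g) = (χ : G → ℂ) g := congrFun (congrArg Subtype.val hb) g
  exact Complex.conj_eq_iff_im.1 h1

theorem bar_one : bar (oneIrr : IrrCharacter G) = oneIrr := by
  apply Subtype.ext
  funext g
  simp [bar, oneIrr, conjFun]

theorem sum_zmod_two [Fintype (IrrCharacter G)] (hodd : Odd (Nat.card G))
    (f : IrrCharacter G → ZMod 2) (hf : ∀ χ, f (bar χ) = f χ) : ∑ χ, f χ = f oneIrr := by
  classical
  rw [← Finset.add_sum_erase _ f (Finset.mem_univ oneIrr)]
  have : ∑ χ ∈ Finset.univ.erase (oneIrr : IrrCharacter G), f χ = 0 := by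
    apply Finset.sum_involution (fun χ _ => bar χ)
    · intro χ _
      rw [hf]
      exact CharTwo.add_self_eq_zero _
    · intro χ hχ _
      exact bar_ne hodd (Finset.ne_of_mem_erase hχ)
    · intro χ _
      exact bar_bar χ
    · intro χ hχ
      apply Finset.mem_erase.2 ⟨?_, Finset.mem_univ _⟩
      intro h
      apply Finset.ne_of_mem_erase hχ
      rw [← bar_bar χ, h, bar_one]
  rw [this, add_zero]

theorem coeff_bar {U : G → ℂ} (hUr : conjFun U = U) {n : IrrCharacter G → ℤ}
    (hn : ∀ χ : IrrCharacter G, classInner U χ = n χ) (χ : IrrCharacter G) : n (bar χ) = n χ := by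
  have h1 : classInner U (bar χ : G → ℂ) = conj (classInner U (χ : G → ℂ)) := by
    conv_lhs => rw [← hUr]
    exact Cfsg.Agent.S1517.inner_conj_conj _ _
  rw [hn, hn, map_intCast] at h1
  exact_mod_cast h1

theorem parity (hodd : Odd (Nat.card G)) {U V : G → ℂ} (hU : IsGeneralizedCharacter G U)
    (hV : IsGeneralizedCharacter G V) (hUr : conjFun U = U) (hVr : conjFun V = V) {m u v : ℤ}
    (hm : classInner U V = m) (hu : U 1 = u) (hv : V 1 = v) : Even (m - u * v) := by
  classical
  have := Fintype.ofFinite (IrrCharacter G)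
  obtain ⟨hUc, hUi⟩ := isGeneralizedCharacter_iff.1 hU
  obtain ⟨hVc, hVi⟩ := isGeneralizedCharacter_iff.1 hV
  choose nU hnU using hUi
  choose nV hnV using hVi
  have key1 : ∀ {W : G → ℂ} (hWc : IsClassFunction G W) {n : IrrCharacter G → ℤ}
      (hn : ∀ χ : IrrCharacter G, classInner W χ = n χ) (hWr : conjFun W = W) {w : ℤ}
      (hw : W 1 = w), (w : ZMod 2) = (n oneIrr : ZMod 2) := by
    intro W hWc n hn hWr w hw
    have h1 : (w : ℂ) = ((∑ χ : IrrCharacter G, n χ * (charDegree (χ : G → ℂ) : ℤ) : ℤ) : ℂ) := by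
      rw [← hw]
      conv_lhs => rw [classFunction_expansion hWc]
      push_cast
      rw [Finset.sum_apply]
      apply Finset.sum_congr rfl
      intro χ _
      rw [Pi.smul_apply, hn, smul_eq_mul,
        Cfsg.Agent.Lib.Helper80.char_one_eq_charDegree (IsIrrCharacter.isCharacter χ.2)]
    have h2 : w = ∑ χ : IrrCharacter G, n χ * (charDegree (χ : G → ℂ) : ℤ) := by
      exact_mod_cast h1
    rw [h2]
    push_cast
    rw [sum_zmod_two hodd]
    · have : charDegree ((oneIrr : IrrCharacter G) : G → ℂ) = 1 := by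
        have h3 := Cfsg.Agent.Lib.Helper80.char_one_eq_charDegree
          (IsIrrCharacter.isCharacter (oneIrr : IrrCharacter G).2)
        have h4 : ((oneIrr : IrrCharacter G) : G → ℂ) 1 = 1 := rfl
        rw [h4] at h3
        exact_mod_cast h3.symm
      rw [this]
      simp
    · intro χ
      rw [coeff_bar hWr hn]
      have h3 := Cfsg.Agent.Lib.Helper80.char_one_eq_charDegree
          (IsIrrCharacter.isCharacter (bar χ).2)
      have h4 := Cfsg.Agent.Lib.Helper80.char_one_eq_charDegree
          (IsIrrCharacter.isCharacter χ.2)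
      have h5 : ((bar χ : IrrCharacter G) : G → ℂ) 1 = conj ((χ : G → ℂ) 1) := rfl
      rw [h5, h4, map_natCast] at h3
      have h6 : charDegree ((bar χ : IrrCharacter G) : G → ℂ) = charDegree (χ : G → ℂ) := by
        exact_mod_cast h3.symm
      rw [h6]
  have key2 : (m : ZMod 2) = (nU oneIrr : ZMod 2) * (nV oneIrr : ZMod 2) := by
    have h1 : (m : ℂ) = ((∑ χ : IrrCharacter G, nU χ * nV χ : ℤ) : ℂ) := by
      rw [← hm, classInner_eq_sum_coeff hUc]
      push_cast
      apply Finset.sum_congr rfl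
      intro χ _
      rw [hnU, ← Cfsg.Agent.Lib.Helper15.classInner_conj_symm, hnV, map_intCast]
    have h2 : m = ∑ χ : IrrCharacter G, nU χ * nV χ := by exact_mod_cast h1
    rw [h2]
    push_cast
    rw [sum_zmod_two hodd]
    intro χ
    rw [coeff_bar hUr hnU, coeff_bar hVr hnV]
  have h3 : ((m - u * v : ℤ) : ZMod 2) = 0 := by
    push_cast
    rw [key2, key1 hUc hnU hUr hu, key1 hVc hnV hVr hv, sub_self]
  rw [ZMod.intCast_zmod_eq_zero_iff_dvd] at h3
  exact even_iff_two_dvd.2 (by exact_mod_cast h3)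

end Cfsg.Agent.Lib.Helper25.FHT
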